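import Groth.Agent.CycLib.ProjBdl.Span

/-!
Cycles on the divisor of the first coordinate of a projective bundle.
-/

set_option autoImplicit false
set_option linter.style.haveILetI false
set_option maxHeartbeats 800000

universe u

open CategoryTheory CategoryTheory.Limits AlgebraicGeometry TopologicalSpace Opposite MvPolynomial IsLocalRing

noncomputable section

namespace Groth.Agent.CycLib.ProjBdl

open Groth.Agent.CycLib.Dev

variable {X P : Scheme.{u}} {p : P ⟶ X} {O1 : P.Modules} {r : ℕ}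

section chart

variable {U : X.Opens} {hU : IsAffineOpen U} (T : Charts p O1 r U hU) {δP : P → ℤ} (hd : Cyc.IsDimFun P δP)
  (hinv : PicF.IsInvertible O1) [IsLocallyNoetherian P]

include hd hinv in
/-- A coordinate has no divisor where it does not vanish. -/
theorem Charts.secDiv_unit (n : Fin r) {ξ x : P} (hξ : p ξ ∈ U) (hx : p x ∈ U) (hv : ¬ T.Van n x) :
    Cyc.secDivFun δP O1 ξ (Submodule.Quotient.mk (T.g n ξ hξ)) x = 0 := by
  by_cases hcond : ξ ⤳ x ∧ δP x + 1 = δP ξ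
  swap
  · exact dif_neg hcond
  obtain ⟨h, h1⟩ := hcond
  have hsp : Ref1.sp O1 h (T.g n x hx) = T.g n ξ hξ := Ref1.sp_germ O1 h hx _
  obtain ⟨m, q, rfl⟩ := T.cover x hx
  have hu : IsUnit (T.germ m q (if hn : n = m then 1 else MvPolynomial.X ⟨_, hn⟩)) :=
    (T.isUnit_germ_iff m q _).2 (mt (T.van_iff m _ q).2 hv)
  have hb : IsBas (T.g n (T.c m q) hx) := by
    rw [T.g_rel m n q]
    exact isBas_smul (T.g_bas m q) hu
  obtain ⟨-, e⟩ := secDiv_section (k := δP (T.c m q)) hd hinv h rfl h1.symm (s := T.g n (T.c m q) hx)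
    (f := 1) hb (one_smul _ _).symm (fun hm => (ptPrime (T.c m q) ξ h).isPrime.ne_top ((Ideal.eq_top_iff_one _).2 hm))
  refine ((congrArg (fun z => Cyc.secDivFun δP O1 ξ (Submodule.Quotient.mk z) _) hsp).symm.trans e).trans ?_
  rw [Ideal.span_singleton_one, sup_top_eq, Module.length_eq_zero]
  rfl

end chart

variable (L : Cov p O1 r) (h1 : 1 < r)

/-- The divisor of the first coordinate. -/
def Cov.VanOne (x : P) : Prop := (L.T (p x)).Van ⟨1, h1⟩ x

/-- The first coordinate sections of the charts are the same. -/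
def Cov.Agrees : Prop := ∀ (ζ : X) (ξ : P) (h : p ξ ∈ L.U ζ),
  (L.T ζ).g ⟨1, h1⟩ ξ h = (L.T (p ξ)).g ⟨1, h1⟩ ξ (L.mem _)

variable {L h1} (hc : L.Agrees h1)
include hc

theorem Cov.vanOne_iff (ζ : X) {ξ : P} (h : p ξ ∈ L.U ζ) : L.VanOne h1 ξ ↔ (L.T ζ).Van ⟨1, h1⟩ ξ := by
  rw [Cov.VanOne, Charts.Van, Charts.Van]
  exact ⟨fun ⟨_, e⟩ => ⟨h, by rw [hc ζ ξ h]; exact e⟩, fun ⟨_, e⟩ => ⟨L.mem _, by rw [← hc ζ ξ h]; exact e⟩⟩

theorem Cov.vanOne_specializes {a b : P} (h : a ⤳ b) (ha : L.VanOne h1 a) : L.VanOne h1 b :=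
  have hm : p a ∈ L.U (p b) := (h.map p.continuous).mem_open (L.U (p b)).2 (L.mem _)
  (L.T (p b)).van_of_specializes h (L.mem _) ((Cov.vanOne_iff hc (p b) hm).1 ha)

/-- Iterated first Chern classes with adapted sections live on the divisor of the first coordinate. -/
theorem Cov.vanOne_iter (hr : 1 ≤ r) {δP : P → ℤ} (hd : Cyc.IsDimFun P δP) (hinv : PicF.IsInvertible O1)
    [IsLocallyNoetherian P] (a : X → ℤ) (t : ℕ → (ξ : P) → Cyc.secFibre O1 ξ) :
    ∀ j, 1 ≤ j → ∀ x, Cov.iter δP (L.linFun hr 0 a) (L.sec' hr t) j x ≠ 0 → L.VanOne h1 x := by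
  intro j
  induction j with
  | zero => omega
  | succ j ih =>
    intro _ x hx
    obtain ⟨ξ, hξ⟩ : ∃ ξ, Cov.iter δP (L.linFun hr 0 a) (L.sec' hr t) j ξ *
        Cyc.secDivFun δP O1 ξ (L.sec' hr t j ξ) x ≠ 0 := by
      by_contra h
      push Not at h
      exact hx (finsum_eq_zero_of_forall_eq_zero h)
    obtain ⟨hi, hs⟩ := mul_ne_zero_iff.1 hξ
    have hsp := (secDivFun_ne_zero hs).1
    rcases j.eq_zero_or_pos with rfl | hj
    · by_contra hv
      rw [Cov.iter, Cov.linFun] at hi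
      split_ifs at hi with hl
      · have hm : p ξ ∈ L.U (p x) := (hsp.map p.continuous).mem_open (L.U (p x)).2 (L.mem _)
        rw [Cov.sec', dif_pos ⟨h1, hl⟩] at hs
        refine hs (Eq.trans ?_ ((L.T (p x)).secDiv_unit hd hinv ⟨1, h1⟩ hm (L.mem _) hv))
        exact congrArg (fun g => Cyc.secDivFun δP O1 ξ (Submodule.Quotient.mk g) x) (hc (p x) ξ hm).symm
      · exact hi rfl
    · exact L.vanOne_specializes hc hsp (ih hj ξ hi)

end Groth.Agent.CycLib.ProjBdl
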