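import Groth.Agent.CycLib.VecBdl.PlusO
import Groth.Agent.CycLib.VecBdl.Support
import Groth.Agent.CycLib.SchemeDim
import Groth.Agent.AlgSpD.RelDim
import Groth.Agent.RelTildeLib.UnitModule
import Groth.Agent.GrModLib.RelTwistLoc
import Mathlib.AlgebraicGeometry.ProjectiveSpectrum.Proper
import Groth.Agent.S9126

/-!
The projective completion of a vector bundle.
-/

set_option autoImplicit false
set_option linter.style.haveILetI false
set_option backward.isDefEq.respectTransparency false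
set_option maxHeartbeats 1000000

universe u

open CategoryTheory CategoryTheory.Limits AlgebraicGeometry TopologicalSpace Opposite

noncomputable section

namespace Groth.Agent.CycLib.VecBdl

open Groth.Agent.CycLib.ProjBdl Groth.Agent.PullStalk.Sky

/-- An induced dimension function exists, and gives a setup. -/
theorem exists_setup {X P : Scheme.{u}} (p : P ⟶ X) [LocallyOfFiniteType p] {δ : X → ℤ} (hX : Cyc.IsSetup X δ) :
    ∃ δP : P → ℤ, Cyc.IsSetup P δP ∧ Cyc.DeltaCompat p δP δ := by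
  haveI := hX.1
  choose n m hm hh using fun x : P => AlgSpD.exists_fibre_dims p x
  let δP : P → ℤ := fun x => δ (p x) + (m x : ℤ)
  have hc : Cyc.DeltaCompat p δP δ := fun x => ⟨m x, hm x, rfl⟩
  refine ⟨δP, ⟨LocallyOfFiniteType.isLocallyNoetherian p, fun x => ?_, isDimFun_of_deltaCompat p hX.2.1 hX.2.2 hc⟩, hc⟩
  letI : Algebra (X.presheaf.stalk (p x)) (P.presheaf.stalk x) := (p.stalkMap x).hom.toAlgebra
  haveI : Algebra.EssFiniteType (X.presheaf.stalk (p x)) (P.presheaf.stalk x) := LocallyOfFiniteType.stalkMap p x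
  exact S9126.result _ _ (hX.2.1 (p x))

section frame

variable {X : Scheme.{u}} {ℰ : X.Modules}

theorem comb_self {M : X.Modules} {U : X.Opens} {n : ℕ} (e : Fin n → Γ(M, U)) (a : Fin n → Γ(X, U)) :
    LFFrame.comb M e (le_refl U) a = ∑ i, a i • e i := by
  refine Finset.sum_congr rfl fun i _ => ?_
  rw [show (homOfLE (le_refl U)).op = 𝟙 _ from Subsingleton.elim _ _, CategoryTheory.Functor.map_id]
  rfl

variable {U : X.Opens} {r : ℕ} (hr : 1 ≤ r) (e : Fin r → Γ(ℰ, U))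

/-- The index of the new variable. -/
def one₁ : Fin (r + 1) := ⟨1, by omega⟩

/-- A frame of `ℰ ⊕ O`. -/
def plusFrame : Fin (r + 1) → Γ(plusO ℰ, U) :=
  Fin.insertNth (one₁ hr) (oneSec ℰ U) fun i => (inE ℰ).app U (e i)

theorem comb_plusFrame (a : Fin (r + 1) → Γ(X, U)) :
    LFFrame.comb (plusO ℰ) (plusFrame hr e) (le_refl U) a = a (one₁ hr) • oneSec ℰ U +
      (inE ℰ).app U (LFFrame.comb ℰ e (le_refl U) fun i => a ((one₁ hr).succAbove i)) := by
  rw [comb_self, comb_self, Fin.sum_univ_succAbove _ (one₁ hr)]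
  refine congrArg₂ (· + ·) (by rw [plusFrame, Fin.insertNth_apply_same]) ?_
  refine Eq.trans ?_ (map_sum ((inE ℰ).app U).hom _ _).symm
  refine Finset.sum_congr rfl fun i _ => ?_
  rw [plusFrame, Fin.insertNth_apply_succAbove]
  exact ((inE ℰ).app_smul _ _).symm

theorem bijective_plusFrame (he : Function.Bijective (LFFrame.comb ℰ e (le_refl U))) :
    Function.Bijective (LFFrame.comb (plusO ℰ) (plusFrame hr e) (le_refl U)) := by
  have h1 : ∀ a : Fin (r + 1) → Γ(X, U),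
      (prE ℰ).app U (LFFrame.comb (plusO ℰ) (plusFrame hr e) (le_refl U) a) =
        LFFrame.comb ℰ e (le_refl U) (fun i => a ((one₁ hr).succAbove i)) ∧
      (show Γ(X, U) from (prO ℰ).app U (LFFrame.comb (plusO ℰ) (plusFrame hr e) (le_refl U) a)) = a (one₁ hr) := by
    intro a
    rw [comb_plusFrame]
    refine ⟨?_, ?_⟩
    · refine (map_add ((prE ℰ).app U).hom _ _).trans ?_
      refine (congrArg₂ (· + ·) (((prE ℰ).app_smul _ _).trans ?_) (prE_inE U _)).trans (zero_add _)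
      rw [oneSec, prE_inO, smul_zero]
    · refine (map_add ((prO ℰ).app U).hom _ _).trans ?_
      refine (congrArg₂ (· + ·) (((prO ℰ).app_smul _ _).trans ?_) (prO_inE U _)).trans (add_zero _)
      rw [oneSec, prO_inO]
      exact mul_one (a (one₁ hr))
  refine ⟨fun a b h => ?_, fun m => ?_⟩
  · have e1 := he.1 ((h1 a).1.symm.trans ((congrArg ((prE ℰ).app U) h).trans (h1 b).1))
    have e2 := (h1 a).2.symm.trans ((congrArg ((prO ℰ).app U) h).trans (h1 b).2)
    funext n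
    rcases Fin.eq_self_or_eq_succAbove (one₁ hr) n with rfl | ⟨i, rfl⟩
    · exact e2
    · exact congrFun e1 i
  · obtain ⟨b, hb⟩ := he.2 ((prE ℰ).app U m)
    refine ⟨Fin.insertNth (one₁ hr) (show Γ(X, U) from (prO ℰ).app U m) b, ?_⟩
    rw [comb_plusFrame, Fin.insertNth_apply_same]
    simp only [Fin.insertNth_apply_succAbove]
    rw [hb, add_comm]
    exact (eq_inE_add U m).symm

end frame

section cons

variable {X P : Scheme.{u}} {𝒮 : RelProj.QCGrAlg X} (z : 𝒮.presheaf.obj (op ⊤)) {p : P ⟶ X}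
  {chart : ∀ (U : X.Opens) (hU : IsAffineOpen U), (((p ⁻¹ᵁ U : P.Opens) : Scheme.{u}) ≅ Proj (𝒮.deg U hU))}
  {O1 : P.Modules}
  (lam : ∀ (U : X.Opens) (hU : IsAffineOpen U),
    O1 ⟶ (Scheme.Modules.pushforward (RelProj.emb p chart U hU)).obj (GrTwist.twist (𝒮.deg U hU) 1))

/-- `σ` is the section `z` over `U`. -/
def IsZ (U : X.Opens) (hU : IsAffineOpen U) (σ : Γ(O1, p ⁻¹ᵁ U)) : Prop :=
  ∀ (V : P.Opens) (hV : V ≤ p ⁻¹ᵁ U) (y : (RelProj.emb p chart U hU ⁻¹ᵁ V : (Proj (𝒮.deg U hU)).Opens)),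
    GrTwist.val (V := RelProj.emb p chart U hU ⁻¹ᵁ V) ((lam U hU).app V (O1.presheaf.map (homOfLE hV).op σ)) y =
      algebraMap _ (GrTwist.Loc (𝒮.deg U hU) y.1) (RelCone.restrictTop 𝒮 z U)

variable {z lam} (hP : RelProj.IsRelProj 𝒮 p chart) (hO1 : RelProj.IsRelTwist 𝒮 p chart 1 O1 lam)

include hO1 in
theorem IsZ.unique {D D' : X.Opens} (e : D = D') {hD : IsAffineOpen D} {hD' : IsAffineOpen D'}
    {σ : Γ(O1, p ⁻¹ᵁ D)} {σ' : Γ(O1, p ⁻¹ᵁ D')} (h : IsZ z lam D hD σ) (h' : IsZ z lam D' hD' σ')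
    {ξ : P} (hξ : p ξ ∈ D) : germM O1 (p ⁻¹ᵁ D) ξ hξ σ = germM O1 (p ⁻¹ᵁ D') ξ (e ▸ hξ) σ' := by
  subst e
  have hσ : σ = σ' := by
    have he : ∀ τ : Γ(O1, p ⁻¹ᵁ D), O1.presheaf.map (homOfLE (le_refl (p ⁻¹ᵁ D))).op τ = τ := fun τ => by
      rw [show (homOfLE (le_refl (p ⁻¹ᵁ D))).op = 𝟙 _ from Subsingleton.elim _ _, CategoryTheory.Functor.map_id]
      rfl
    refine (hO1.bijective D hD _ le_rfl).1 (Subtype.ext (funext fun y => Subtype.ext ?_))
    have h1 := h _ le_rfl y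
    have h2 := h' _ le_rfl y
    rw [he] at h1 h2
    exact h1.trans h2.symm
  rw [hσ]

include hP hO1 in
theorem IsZ.res {U : X.Opens} {hU : IsAffineOpen U} {σ : Γ(O1, p ⁻¹ᵁ U)} (h : IsZ z lam U hU σ) (f : Γ(X, U)) :
    IsZ z lam (X.basicOpen f) (hU.basicOpen f)
      (O1.presheaf.map (homOfLE (p.preimage_mono (X.basicOpen_le f))).op σ) := by
  intro V hV y
  rw [LFFrame.res_res]
  have hy' : RelProj.emb p chart U hU (ProjectiveSpectrum.comap (𝒮.res hU (hU.basicOpen f) (X.basicOpen_le f))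
      (𝒮.irrelevant_le_map U hU f) y.1) ∈ V := by
    have e := RelProjLib.map_res_emb_affine 𝒮 hP hU (hU.basicOpen f) (X.basicOpen_le f)
    have h0 : RelProj.emb p chart (X.basicOpen f) (hU.basicOpen f) y.1 ∈ V := y.2
    exact Eq.mp (congrArg (fun g => g y.1 ∈ V) e.symm) h0
  refine (hO1.compat U hU f V _ y.1 y.2 hy').trans ?_
  refine (congrArg (GrTwist.locMap _ (𝒮.irrelevant_le_map U hU f) y.1)
    (h V (hV.trans (p.preimage_mono (X.basicOpen_le f))) ⟨_, hy'⟩)).trans ?_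
  refine (Localization.localRingHom_to_map _ _ _ _ _).trans (congrArg _ ?_)
  exact RelConeLib.restrictTop_map (X.basicOpen_le f)

include hP hO1 in
theorem IsZ.germ_eq {U U' : X.Opens} {hU : IsAffineOpen U} {hU' : IsAffineOpen U'} {σ : Γ(O1, p ⁻¹ᵁ U)}
    {σ' : Γ(O1, p ⁻¹ᵁ U')} (h : IsZ z lam U hU σ) (h' : IsZ z lam U' hU' σ') {ξ : P} (hξ : p ξ ∈ U)
    (hξ' : p ξ ∈ U') : germM O1 (p ⁻¹ᵁ U) ξ hξ σ = germM O1 (p ⁻¹ᵁ U') ξ hξ' σ' := by
  obtain ⟨f, g, efg, hf⟩ := exists_basicOpen_le_affine_inter hU hU' (p ξ) ⟨hξ, hξ'⟩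
  refine ((O1.presheaf.germ_res_apply _ ξ hf σ).symm.trans
    (IsZ.unique hO1 efg (h.res hP hO1 f) (h'.res hP hO1 g) hf)).trans ?_
  exact O1.presheaf.germ_res_apply _ ξ _ σ'

end cons

variable {X : Scheme.{u}} {ℰ : X.Modules}

/-- The projective completion of a vector bundle, with charts adapted to the divisor at infinity. -/
theorem exists_completion (hq : Coh.IsQCoh ℰ) {r : ℕ} (hr : 1 ≤ r) (hE : FlatMod.IsFinLocFreeOfRank r ℰ)
    {A : RelSpec.QCAlg X} {j : ℰ ⟶ A.toModule} (hA : RelSpec.IsSymAlg ℰ A j) :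
    ∃ (P : Scheme.{u}) (p : P ⟶ X) (O1 : P.Modules) (i : A.spec ⟶ P) (L : Cov p O1 (r + 1)),
      IsOpenImmersion i ∧ i ≫ p = A.π ∧ IsProper p ∧ PicF.IsInvertible O1 ∧ L.Agrees (by omega) ∧
        ∀ x, L.VanOne (by omega) x ↔ x ∉ Set.range i := by
  classical
  haveI : ℰ.IsQuasicoherent := hq
  haveI : (plusO ℰ).IsQuasicoherent := isQCoh_plusO ℰ hq
  have hS := isGrSymAlg_Sh ℰ
  obtain ⟨P, p, chart, hP⟩ := RelProjLib.exists_isRelProj (Sh ℰ)
  obtain ⟨O1, lam, hO1⟩ := RelTildeLib.exists_isRelTwist hP 1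
  have hinv : PicF.IsInvertible O1 := GrModLib.isInvertible_relTwist (SymLib.isGenDegOne hS) hO1
  have D := polyData hA
  obtain ⟨i, hi, -⟩ := RelConeLib.existsUnique_isImm D hP
  have key : ∀ ζ : X, ∃ (U : X.Opens) (hU : IsAffineOpen U), ζ ∈ U ∧ ∃ T : Charts p O1 (r + 1) U hU,
      IsZ (zvar ℰ) lam U hU (T.sec (one₁ hr)) ∧
      RelProj.emb p chart U hU ⁻¹ᵁ (haveI := T.imm (one₁ hr); (T.c (one₁ hr)).opensRange) =
        Proj.basicOpen ((Sh ℰ).deg U hU) (RelCone.restrictTop (Sh ℰ) (zvar ℰ) U) ∧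
      IsProper (p ∣_ U) := by
    intro ζ
    obtain ⟨U, hζ, ⟨φ⟩⟩ := hE ζ
    let π : Fin r → (FlatMod.freeMod (U : Scheme.{u}) r ⟶ Coh.structureModule (U : Scheme.{u})) :=
      fun j => Sigma.desc fun i => if i = j then 𝟙 _ else 0
    obtain ⟨e, he⟩ := LFFrame.exists_isFrame_of_split (M := ℰ)
      (fun i => Sigma.ι (fun _ : Fin r => Coh.structureModule (U : Scheme.{u})) i ≫ φ.inv)
      (fun j => φ.hom ≫ π j) (fun i j => by simp [π]) (by
        rw [← cancel_epi φ.inv, ← cancel_mono φ.hom]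
        apply Sigma.hom_ext
        intro j
        simp [π, Preadditive.comp_sum, Preadditive.sum_comp, ite_comp])
    obtain ⟨V, hV, hζV, hVU⟩ := exists_isAffineOpen_mem_and_subset (x := ζ) (U := U) hζ
    let e0 := fun i => ℰ.presheaf.map (homOfLE hVU).op (e i)
    have he0 : Function.Bijective (LFFrame.comb ℰ e0 (le_refl V)) := by
      have hc : LFFrame.comb ℰ e0 (le_refl V) = LFFrame.comb ℰ e hVU := by
        funext a
        exact Finset.sum_congr rfl fun i _ => congrArg _ (LFFrame.res_res _ _ _ _)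
      rw [hc]
      exact he V hVU
    have hb := bijective_plusFrame hr e0 he0
    obtain ⟨T, hT⟩ := exists_charts_spec hS hV hb p chart hP hO1 hinv
    have ht : tvar (jS ℰ) (plusFrame hr e0) (one₁ hr) = RelCone.restrictTop (Sh ℰ) (zvar ℰ) V := by
      rw [tvar, plusFrame, Fin.insertNth_apply_same]
      exact (restrictTop_zvar V).symm
    obtain ⟨h1, h2⟩ := hT (one₁ hr)
    rw [ht] at h2
    refine ⟨V, hV, hζV, T, fun W hW y => (h1 W hW y).trans (congrArg _ ht), h2, ?_⟩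
    let 𝒜 := (Sh ℰ).deg V hV
    have hpoly := isPoly hS hV hb
    haveI : Algebra.FiniteType (𝒜 0) ((Sh ℰ).presheaf.obj (op V)) := by
      refine Algebra.FiniteType.of_surjective (A := MvPolynomial (Fin (r + 1)) (𝒜 0))
        (MvPolynomial.aeval (tvar (jS ℰ) (plusFrame hr e0))) fun a => ?_
      obtain ⟨b, rfl⟩ := hpoly.bij.2 a
      refine ⟨MvPolynomial.map ((Sh ℰ).strZero V hV).hom b, ?_⟩
      rw [MvPolynomial.aeval_def, MvPolynomial.eval₂_map]
      rfl
    haveI : IsProper (Proj.toSpecZero 𝒜) := inferInstance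
    have hz : Function.Surjective ((Sh ℰ).strZero V hV).hom := fun a => by
      letI := ((Sh ℰ).str.app (op V)).hom.toAlgebra
      have h := (SymLib.mem_deg_iff hS hV).1 a.2
      rw [SymLib.piece, pow_zero, Submodule.mem_one] at h
      obtain ⟨c, hc⟩ := h
      exact ⟨c, Subtype.ext hc⟩
    haveI : IsClosedImmersion (Spec.map ((Sh ℰ).strZero V hV)) := IsClosedImmersion.spec_of_surjective _ hz
    have e1 : p ∣_ V = (chart V hV).hom ≫ Proj.toSpecZero 𝒜 ≫ Spec.map ((Sh ℰ).strZero V hV) ≫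
        hV.isoSpec.inv := by
      rw [← cancel_mono V.ι, morphismRestrict_ι, ← hP.chart_over V hV]
      simp only [Category.assoc, IsAffineOpen.isoSpec_inv_ι]
      rfl
    rw [e1]
    infer_instance
  choose U hU hm T hTz hTr hTp using key
  let L : Cov p O1 (r + 1) := ⟨U, hU, hm, T⟩
  refine ⟨P, p, O1, i, L, RelConeLib.isOpenImmersion hP hi, RelConeLib.comp_π hP hi, ?_, hinv, ?_, fun x => ?_⟩
  · rw [IsZariskiLocalAtTarget.iff_of_iSup_eq_top (P := @IsProper) U ?_]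
    · exact hTp
    · rw [eq_top_iff]
      exact fun x _ => Opens.mem_iSup.2 ⟨x, hm x⟩
  · intro ζ ξ h
    exact IsZ.germ_eq hP hO1 (hTz ζ) (hTz (p ξ)) h (L.mem _)
  · let ζ := p x
    obtain ⟨y, hy⟩ : x ∈ Set.range (RelProj.emb p chart (U ζ) (hU ζ)) := (opensRange_emb (hU ζ) p chart).ge (hm ζ)
    have hiff : ¬ (T ζ).Van (one₁ hr) x ↔ x ∈ ((T ζ).c (one₁ hr)).opensRange := by
      refine ⟨fun h => ?_, fun h => ?_⟩
      · obtain ⟨q, hq⟩ := (T ζ).exists_of_not_van (hm ζ) h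
        exact ⟨q, hq⟩
      · obtain ⟨q, hq⟩ := h
        exact hq ▸ (T ζ).not_van_self _ q
    have h2 : x ∈ ((T ζ).c (one₁ hr)).opensRange ↔
        RelCone.restrictTop (Sh ℰ) (zvar ℰ) (U ζ) ∉ y.asHomogeneousIdeal := by
      rw [← hy]
      exact Eq.to_iff (congrArg (fun O : (Proj ((Sh ℰ).deg (U ζ) (hU ζ))).Opens => y ∈ O) (hTr ζ))
    show (T ζ).Van (one₁ hr) x ↔ _
    rw [← not_iff_not, not_not, hiff, h2, ← RelConeLib.emb_mem_range_iff hP hi (U ζ) (hU ζ) y, hy]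

end Groth.Agent.CycLib.VecBdl
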