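import Groth.Agent.CycLib.VecBdl.Splitting

/-!
Splitting without integrality.
-/

set_option autoImplicit false
set_option linter.style.haveILetI false
set_option backward.isDefEq.respectTransparency false
set_option maxHeartbeats 1000000
universe u
open CategoryTheory CategoryTheory.Limits AlgebraicGeometry TopologicalSpace Opposite
noncomputable section
open Groth.Agent.CycLib.Dev Groth.Agent.CycLib.ProjBdl Groth.Agent.PullStalk.Sky

namespace Groth.Agent.CycLib.VecBdl

/-- Iterated projective bundles split a locally free module on any scheme with a dimension function. -/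
theorem exists_splitting' : ∀ (r : ℕ) (X : Scheme.{u}) (δ : X → ℤ), Cyc.IsSetup X δ →
    ∀ E : X.Modules, FlatMod.IsFinLocFreeOfRank r E →
    ∃ (Y : Scheme.{u}) (φ : Y ⟶ X) (c : ℕ) (δY : Y → ℤ),
      Smooth φ ∧ IsProper φ ∧ Cyc.HasRelDim φ c ∧ Cyc.IsSetup Y δY ∧ Cyc.DeltaCompat φ δY δ ∧
      (∀ (d : ℤ) (α : AlgebraicCycle X ℤ), α ∈ Cyc.Zk X δ d →
        ∀ β : AlgebraicCycle Y ℤ, (∀ y : Y, β y = Cyc.pullFun φ δY δ c (fun x => α x) y) →
          Cyc.RatEquivZero δY (d + c) β → Cyc.RatEquivZero δ d α) ∧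
      ∃ (F : Fin (r + 1) → Y.Modules) (ι : ∀ i : Fin r, F i.castSucc ⟶ F i.succ),
        IsZero (F 0) ∧ Nonempty (F (Fin.last r) ≅ (Scheme.Modules.pullback φ).obj E) ∧
        ∀ i : Fin r, Mono (ι i) ∧ PicF.IsInvertible (cokernel (ι i)) := by
  intro r
  induction r with
  | zero =>
    intro X δ hX E hE
    have hid : Cyc.DeltaCompat (𝟙 X) δ δ := deltaCompat_preimmersion (𝟙 X) δ
    refine ⟨X, 𝟙 X, 0, δ, inferInstance, inferInstance, ?_, hX, hid, fun d α _ β hβ h => ?_,
      fun _ => (Scheme.Modules.pullback (𝟙 X)).obj E, fun i => i.elim0, ?_, ⟨Iso.refl _⟩, fun i => i.elim0⟩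
    · refine hasRelDim_of_trdeg _ fun x _ => ?_
      obtain ⟨n, hn, hn'⟩ := hid x
      rw [hn]
      have : n = 0 := by
        have : δ ((𝟙 X : X ⟶ X) x) = δ x := rfl
        omega
      simp [this]
    · have e : β = α := Function.locallyFinsuppWithin.ext fun y => by rw [hβ, Nat.cast_zero, pullFun_id]
      simpa [e] using h
    · exact (Scheme.Modules.pullback (𝟙 X)).map_isZero (isZero_of_rank_zero hE)
  | succ r ih =>
    intro X δ hX E hE
    classical
    haveI := hX.1
    have hq : Coh.IsQCoh E := PerfTri.Betti.isQuasicoherent_of_isFinLocFree (FinCov71.isFinLocFree_of_rank hE)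
    obtain ⟨P, p, O1, q, L, hp, hsm, hinv, hepi, hK⟩ := exists_projBundle hq hE
    haveI := hp
    haveI := hsm
    haveI := hepi
    obtain ⟨δP, hP, hδP⟩ := exists_setup p hX
    haveI := hP.1
    have hd := hP.2.2
    obtain ⟨Y, ψ, c, δY, hψs, hψp, hψr, hY, hψδ, hinj, F, ι, hF0, ⟨eF⟩, hι⟩ := ih P δP hP (kernel q) hK
    haveI := hψs
    haveI := hψp
    have hs := L.shiftBy hd hδP
    have hpr : Cyc.HasRelDim p r := hasRelDim_of_trdeg p fun x hx => by
      obtain ⟨n, hn, hn'⟩ := hδP x
      have := hs x hx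
      rw [hn]
      have : n = r := by push_cast at *; omega
      rw [this]
    obtain ⟨hrel, hcomp⟩ : Cyc.HasRelDim (ψ ≫ p) (c + r) ∧ _ :=
      ⟨(S1857.result Y P X δY δP δ hY hP hX ψ p c r hψr hpr hψδ hδP 0).1, fun k =>
        (S1857.result Y P X δY δP δ hY hP hX ψ p c r hψr hpr hψδ hδP k).2⟩
    refine ⟨Y, ψ ≫ p, c + r, δY, inferInstance, inferInstance, hrel, hY, deltaCompat_comp hψδ hδP,
      fun d α hα β hβ h => ?_, ?_⟩
    · have hR : 1 ≤ r + 1 := by omega
      have hk : d + ((r + 1 : ℕ) : ℤ) - 1 = d + r := by push_cast; ring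
      have hplc : IsCyc δP (d + r) (Cyc.pullFun p δP δ (((r + 1 : ℕ) : ℤ) - 1) ⇑α) := hk ▸ L.isCyc_pull hR hd hδP α hα
      obtain ⟨Φ, hΦk, hΦ⟩ := hplc.exists_cycle
      have hr1 : (((r + 1 : ℕ) : ℤ) - 1) = (r : ℤ) := by push_cast; ring
      have h0 : Cyc.RatEquivZero δP (d + r) Φ := by
        refine hinj (d + r) Φ hΦk β (fun y => ?_) (by rwa [show d + ((c + r : ℕ) : ℤ) = d + r + c by push_cast; ring] at h)
        rw [hβ, show (fun x => Φ x) = Cyc.pullFun p δP δ r ⇑α by rw [← hr1, ← hΦ]]
        rw [show ((c + r : ℕ) : ℤ) = (c : ℤ) + r by push_cast; rfl]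
        exact (congrFun (hcomp d α hα) y).symm
      choose b hb using fun ξ : P => exists_isBas hinv ξ
      let t : Fin (r + 1) → ℕ → (ξ : P) → Cyc.secFibre O1 ξ := fun _ _ ξ => Submodule.Quotient.mk (b ξ)
      have ht : ∀ a m ξ, t a m ξ ≠ 0 := fun _ _ ξ => mk_ne_zero_of_isBas (hb ξ)
      let o₀ : Fin (r + 1) := ⟨0, by omega⟩
      let αs : Fin (r + 1) → AlgebraicCycle X ℤ := Function.update (fun _ => 0) o₀ α
      have hαs : ∀ a : Fin (r + 1), αs a ∈ Cyc.Zk X δ (d + ((a : ℕ) : ℤ)) := fun a x hx => by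
        by_cases h : a = o₀
        · subst h
          simp only [αs, Function.update_self]
          exact hα x (by simpa [o₀] using hx)
        · simp only [αs, Function.update_of_ne h]
          rfl
      have hsum : ⇑Φ = ∑ a : Fin (r + 1), Cov.iter δP (Cyc.pullFun p δP δ (((r + 1 : ℕ) : ℤ) - 1) ⇑(αs a)) (t a) (a : ℕ) := by
        rw [Finset.sum_eq_single o₀ (fun a _ ha => by
          simp only [αs, Function.update_of_ne ha]
          rw [pullFun_zero, iter_zero]) (fun h => absurd (Finset.mem_univ o₀) h), hΦ]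
        simp only [αs, Function.update_self]
        rfl
      have := L.injective hR hd hδP hinv hX hP d αs hαs t ht Φ hsum (hk.symm ▸ h0) o₀
      simpa [αs, o₀] using this
    · let a : (Scheme.Modules.pullback ψ).obj (kernel q) ⟶ (Scheme.Modules.pullback ψ).obj ((Scheme.Modules.pullback p).obj E) :=
        (Scheme.Modules.pullback ψ).map (kernel.ι q)
      let eq : cokernel (kernel.ι q) ≅ O1 :=
        IsColimit.coconePointUniqueUpToIso (cokernelIsCokernel _)
          (Abelian.epiIsCokernelOfKernel _ (kernelIsKernel q))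
      have hC : PicF.IsInvertible (cokernel (kernel.ι q)) := PicCl.isInvertible_of_iso eq.symm hinv
      haveI : Mono a := EpiLocus.mono_pullback_of_isFinLocFree_cokernel (kernel.ι q)
        (ProjForm.isFinLocFree_of_isInvertible hC) ψ
      have hCa : PicF.IsInvertible (cokernel a) :=
        PicCl.isInvertible_of_iso (PreservesCokernel.iso (Scheme.Modules.pullback ψ) (kernel.ι q))
          (PicCl.isInvertible_pullback ψ hC)
      let a' : F (Fin.last r) ⟶ (Scheme.Modules.pullback (ψ ≫ p)).obj E :=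
        eF.hom ≫ a ≫ (Scheme.Modules.pullbackComp ψ p).hom.app E
      have ha' : Mono a' ∧ PicF.IsInvertible (cokernel a') :=
        ⟨inferInstance, PicCl.isInvertible_of_iso
          ((cokernelCompIsIso a ((Scheme.Modules.pullbackComp ψ p).hom.app E)).symm ≪≫
            (cokernelEpiComp eF.hom _).symm) hCa⟩
      let G : Fin (r + 1 + 1) → Y.Modules := Fin.snoc F ((Scheme.Modules.pullback (ψ ≫ p)).obj E)
      have e1 : ∀ i : Fin (r + 1), G i.castSucc = F i := fun i => Fin.snoc_castSucc _ _ _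
      have e2 : G (Fin.last (r + 1)) = (Scheme.Modules.pullback (ψ ≫ p)).obj E := Fin.snoc_last _ _
      have key : ∀ i : Fin (r + 1), ∃ f : G i.castSucc ⟶ G i.succ, Mono f ∧ PicF.IsInvertible (cokernel f) := by
        intro i
        induction i using Fin.lastCases with
        | last =>
          have e2' : G (Fin.last r).succ = (Scheme.Modules.pullback (ψ ≫ p)).obj E := by rw [Fin.succ_last]; exact e2
          refine ⟨eqToHom (e1 _) ≫ a' ≫ eqToHom e2'.symm, ?_, ?_⟩
          · haveI := ha'.1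
            infer_instance
          · exact PicCl.isInvertible_of_iso
              ((cokernelCompIsIso a' (eqToHom e2'.symm)).symm ≪≫ (cokernelEpiComp (eqToHom (e1 _)) _).symm) ha'.2
        | cast i =>
          have e3 : G i.castSucc.succ = F i.succ := by rw [Fin.succ_castSucc]; exact e1 _
          refine ⟨eqToHom (e1 _) ≫ ι i ≫ eqToHom e3.symm, ?_, ?_⟩
          · haveI := (hι i).1
            infer_instance
          · exact PicCl.isInvertible_of_iso
              ((cokernelCompIsIso (ι i) (eqToHom e3.symm)).symm ≪≫ (cokernelEpiComp (eqToHom (e1 _)) _).symm) (hι i).2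
      choose f hf using key
      refine ⟨G, f, ?_, ⟨eqToIso e2⟩, hf⟩
      have : G 0 = F 0 := e1 0
      rw [this]
      exact hF0

end Groth.Agent.CycLib.VecBdl
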