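import Groth.Agent.SymLib.Affine
import Groth.Prelude.Def_RelProj2
import Mathlib.Algebra.DirectSum.Decomposition

/-!
Every symmetric algebra of a quasi-coherent module is graded.
-/

set_option autoImplicit false
set_option linter.style.haveILetI false

universe u

open CategoryTheory CategoryTheory.Limits AlgebraicGeometry TopologicalSpace Opposite
open scoped Polynomial DirectSum

noncomputable section

namespace Groth.Agent.CycLib.VecBdl

open Groth.Agent.SymLib

variable {S : Scheme.{u}} {E : S.Modules} [E.IsQuasicoherent] {A : RelSpec.QCAlg S} {j : E ⟶ A.toModule}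
  (hA : RelSpec.IsSymAlg E A j) {U : S.Opens} (hU : IsAffineOpen U)

/-- `j m ↦ (j m) X`. -/
def scale (j : E ⟶ A.toModule) (U : S.Opens) :
    SymmetricAlgebra Γ(S, U) Γ(E, U) →+* (A.presheaf.obj (op U) : Type u)[X] :=
  letI : Algebra Γ(S, U) (A.presheaf.obj (op U)) := (A.str.app (op U)).hom.toAlgebra
  (SymmetricAlgebra.lift (R := Γ(S, U)) (A := (A.presheaf.obj (op U) : Type u)[X])
    { toFun := fun m => Polynomial.monomial 1 (show (A.presheaf.obj (op U) : Type u) from j.app U m)
      map_add' := fun a b => by
        rw [← map_add]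
        exact congrArg (Polynomial.monomial 1) (map_add (j.app U).hom a b)
      map_smul' := fun r m => by
        rw [RingHom.id_apply, Polynomial.smul_monomial]
        exact congrArg (Polynomial.monomial 1) (j.app_smul r m) }).toRingHom

/-- The scaling action on a symmetric algebra. -/
def phi : (A.presheaf.obj (op U) : Type u) →+* (A.presheaf.obj (op U) : Type u)[X] :=
  (scale j U).comp (RingEquiv.ofBijective _ (affLift_bijective hA hU)).symm.toRingHom

theorem phi_affLift (x : SymmetricAlgebra Γ(S, U) Γ(E, U)) : phi hA hU (affLift j U x) = scale j U x :=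
  congrArg (scale j U) ((RingEquiv.ofBijective _ (affLift_bijective hA hU)).symm_apply_apply x)

theorem phi_str (r : Γ(S, U)) :
    phi hA hU ((A.str.app (op U)).hom r) = Polynomial.monomial 0 ((A.str.app (op U)).hom r) := by
  letI : Algebra Γ(S, U) (A.presheaf.obj (op U)) := (A.str.app (op U)).hom.toAlgebra
  rw [← affLift_algebraMap j U r, phi_affLift, affLift_algebraMap, Polynomial.monomial_zero_left]
  exact AlgHom.commutes _ r

theorem phi_j (m : Γ(E, U)) :
    phi hA hU (j.app U m) = Polynomial.monomial 1 (show (A.presheaf.obj (op U) : Type u) from j.app U m) := by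
  letI : Algebra Γ(S, U) (A.presheaf.obj (op U)) := (A.str.app (op U)).hom.toAlgebra
  refine (congrArg (phi hA hU) (affLift_ι j U m).symm).trans ((phi_affLift hA hU _).trans ?_)
  exact SymmetricAlgebra.lift_ι_apply _ m

/-- The degree-`d` part of a symmetric algebra. -/
def deg (d : ℕ) : AddSubgroup (A.presheaf.obj (op U)) where
  carrier := {x | phi hA hU x = Polynomial.monomial d x}
  zero_mem' := by simp
  add_mem' {a b} ha hb := by
    simp only [Set.mem_setOf_eq, map_add] at *
    rw [ha, hb]
  neg_mem' {a} ha := by
    simp only [Set.mem_setOf_eq, map_neg] at *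
    rw [ha]

theorem mem_deg {d : ℕ} {x : A.presheaf.obj (op U)} :
    x ∈ deg hA hU d ↔ phi hA hU x = Polynomial.monomial d x := Iff.rfl

theorem spec (x : A.presheaf.obj (op U)) :
    (phi hA hU x).eval 1 = x ∧ ∀ d, (phi hA hU x).coeff d ∈ deg hA hU d := by
  classical
  induction x using affInduction hA hU with
  | hstr r =>
    rw [phi_str]
    refine ⟨by simp, fun d => ?_⟩
    rw [Polynomial.coeff_monomial]
    split_ifs with h
    · subst h; exact phi_str hA hU r
    · exact zero_mem _
  | hj m =>
    rw [phi_j]
    refine ⟨(Polynomial.eval_monomial).trans (by rw [one_pow, mul_one]), fun d => ?_⟩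
    rw [Polynomial.coeff_monomial]
    split_ifs with h
    · subst h; exact phi_j hA hU m
    · exact zero_mem _
  | hmul a b ha hb =>
    rw [map_mul]
    refine ⟨by rw [Polynomial.eval_mul, ha.1, hb.1], fun d => ?_⟩
    rw [Polynomial.coeff_mul]
    refine AddSubgroup.sum_mem _ fun p hp => ?_
    rw [Finset.HasAntidiagonal.mem_antidiagonal] at hp
    rw [mem_deg, map_mul, ha.2 p.1, hb.2 p.2, Polynomial.monomial_mul_monomial, hp]
  | hadd a b ha hb =>
    rw [map_add]
    refine ⟨by rw [Polynomial.eval_add, ha.1, hb.1], fun d => ?_⟩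
    rw [Polynomial.coeff_add]
    exact add_mem (ha.2 d) (hb.2 d)

open Classical in
/-- The decomposition of a symmetric algebra. -/
def dec : (A.presheaf.obj (op U) : Type u) →+ ⨁ d, deg hA hU d where
  toFun x := DirectSum.mk _ (phi hA hU x).support fun d => ⟨_, (spec hA hU x).2 d⟩
  map_zero' := by
    refine DFinsupp.ext fun d => ?_
    by_cases h : d ∈ (phi hA hU (0 : A.presheaf.obj (op U))).support
    · simp at h
    · rw [DirectSum.mk_apply_of_notMem h]; rfl
  map_add' a b := by
    have key : ∀ (x : A.presheaf.obj (op U)) (d : ℕ),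
        ((DirectSum.mk (fun d => deg hA hU d) (phi hA hU x).support fun d => ⟨_, (spec hA hU x).2 d⟩) d :
          A.presheaf.obj (op U)) = (phi hA hU x).coeff d := by
      intro x d
      by_cases h : d ∈ (phi hA hU x).support
      · rw [DirectSum.mk_apply_of_mem h]
      · rw [DirectSum.mk_apply_of_notMem h]
        exact (Polynomial.notMem_support_iff.1 h).symm
    refine DFinsupp.ext fun d => Subtype.ext ?_
    rw [DirectSum.add_apply, AddSubgroup.coe_add, key, key, key, map_add, Polynomial.coeff_add]

theorem dec_apply (x : A.presheaf.obj (op U)) (d : ℕ) :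
    (dec hA hU x d : A.presheaf.obj (op U)) = (phi hA hU x).coeff d := by
  classical
  change ((DirectSum.mk (fun d => deg hA hU d) (phi hA hU x).support fun d => ⟨_, (spec hA hU x).2 d⟩) d :
    A.presheaf.obj (op U)) = _
  by_cases h : d ∈ (phi hA hU x).support
  · rw [DirectSum.mk_apply_of_mem h]
  · rw [DirectSum.mk_apply_of_notMem h]
    exact (Polynomial.notMem_support_iff.1 h).symm

open Classical in
/-- A symmetric algebra is a graded ring. -/
@[reducible] def gradedRing : GradedRing (deg hA hU) :=
  letI : SetLike.GradedMonoid (deg hA hU) :=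
    { one_mem := by rw [mem_deg, map_one, Polynomial.monomial_zero_one]
      mul_mem := fun i k a b ha hb => by
        rw [mem_deg, map_mul, (mem_deg hA hU).1 ha, (mem_deg hA hU).1 hb, Polynomial.monomial_mul_monomial] }
  letI : DirectSum.Decomposition (deg hA hU) :=
    DirectSum.Decomposition.ofAddHom _ (dec hA hU)
      (by
        ext x
        change DirectSum.coeAddMonoidHom (deg hA hU) (DirectSum.mk _ (phi hA hU x).support fun d => ⟨_, (spec hA hU x).2 d⟩) = x
        rw [DirectSum.coeAddMonoidHom_eq_dfinsuppSum]
        conv_rhs => rw [← (spec hA hU x).1, Polynomial.eval_eq_sum, Polynomial.sum_def]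
        simp only [one_pow, mul_one]
        rw [DFinsupp.sum]
        refine Finset.sum_subset_zero_on_sdiff ?_ (fun d hd => ?_) (fun d hd => ?_)
        · intro d hd
          rw [DFinsupp.mem_support_toFun] at hd
          by_contra h
          exact hd (DirectSum.mk_apply_of_notMem h)
        · rw [Finset.mem_sdiff, DFinsupp.mem_support_toFun, not_not] at hd
          have := congrArg Subtype.val hd.2
          exact (dec_apply hA hU x d).symm.trans this
        · exact dec_apply hA hU x d)
      (by
        refine DirectSum.addHom_ext fun d a => DFinsupp.ext fun k => Subtype.ext ?_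
        simp only [AddMonoidHom.comp_apply, DirectSum.coeAddMonoidHom_of, AddMonoidHom.id_apply]
        rw [dec_apply, (mem_deg hA hU).1 a.2, Polynomial.coeff_monomial, DirectSum.coe_of_apply]
        split_ifs <;> rfl)
  GradedRing.mk

theorem phi_res {V : S.Opens} (hV : IsAffineOpen V) (i : V ≤ U) (x : A.presheaf.obj (op U)) :
    phi hA hV ((A.presheaf.map (homOfLE i).op).hom x) =
      (phi hA hU x).map (A.presheaf.map (homOfLE i).op).hom := by
  induction x using affInduction hA hU with
  | hstr r =>
    have e : (A.presheaf.map (homOfLE i).op).hom ((A.str.app (op U)).hom r) =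
        (A.str.app (op V)).hom ((S.presheaf.map (homOfLE i).op).hom r) :=
      congr($(A.str.naturality (homOfLE i).op).hom r).symm
    rw [phi_str, Polynomial.map_monomial, e, phi_str]
  | hj m =>
    have e : (A.presheaf.map (homOfLE i).op).hom (j.app U m) = j.app V (E.presheaf.map (homOfLE i).op m) :=
      (QCoh.app_res j i m).symm
    rw [phi_j, Polynomial.map_monomial, e]
    exact phi_j hA hV _
  | hmul a b ha hb => rw [map_mul, map_mul, map_mul, Polynomial.map_mul, ha, hb]
  | hadd a b ha hb => rw [map_add, map_add, map_add, Polynomial.map_add, ha, hb]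

variable (A j) in
/-- A symmetric algebra as a graded algebra. -/
def grAlg : RelProj.QCGrAlg S where
  toQCAlg := A
  deg U hU := deg hA hU
  graded U hU := gradedRing hA hU
  map_mem {U V} hU hV i {d x} hx := by
    rw [mem_deg, phi_res hA hU hV i, (mem_deg hA hU).1 hx, Polynomial.map_monomial]
  str_mem U hU r := phi_str hA hU r

theorem isGrSymAlg_grAlg : RelProj.IsGrSymAlg E (grAlg A j hA) j :=
  ⟨hA, fun U hU m => phi_j hA hU m⟩

end Groth.Agent.CycLib.VecBdl
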