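import Groth.Agent.CycLib.VecBdl.Graded
import Groth.Agent.SymLib.Grading
import Groth.Agent.CohDev.Coh
import Groth.Agent.ProjTwist.Invertible
import Groth.Agent.RelConeLib.Chart

/-!
The symmetric algebra of `E ⊕ O` is `Sym(E)[z]`.
-/

set_option autoImplicit false
set_option linter.style.haveILetI false
set_option backward.isDefEq.respectTransparency false

universe u

open CategoryTheory CategoryTheory.Limits AlgebraicGeometry TopologicalSpace Opposite

noncomputable section

namespace Groth.Agent.CycLib.VecBdl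

open Groth.Agent.SymLib

variable {X : Scheme.{u}} (ℰ : X.Modules) (hq : Coh.IsQCoh ℰ) {A : RelSpec.QCAlg X} {j : ℰ ⟶ A.toModule}

/-- `ℰ ⊕ O`. -/
def plusO : X.Modules := ℰ ⊞ Coh.structureModule X

include hq in
theorem isQCoh_plusO : Coh.IsQCoh (plusO ℰ) :=
  CohDev.isQCoh_biprod hq (ProjTwist.isQuasicoherent_structureModule X)

/-- The inclusion of `ℰ`. -/
def inE : ℰ ⟶ plusO ℰ := biprod.inl
/-- The inclusion of `O`. -/
def inO : Coh.structureModule X ⟶ plusO ℰ := biprod.inr
/-- The projection to `ℰ`. -/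
def prE : plusO ℰ ⟶ ℰ := biprod.fst
/-- The projection to `O`. -/
def prO : plusO ℰ ⟶ Coh.structureModule X := biprod.snd

variable {ℰ}

theorem prE_inE (U : X.Opens) (m : Γ(ℰ, U)) : (prE ℰ).app U ((inE ℰ).app U m) = m :=
  congr(($(biprod.inl_fst (X := ℰ) (Y := Coh.structureModule X))).app U m)

theorem prO_inE (U : X.Opens) (m : Γ(ℰ, U)) : (prO ℰ).app U ((inE ℰ).app U m) = 0 :=
  congr(($(biprod.inl_snd (X := ℰ) (Y := Coh.structureModule X))).app U m)

theorem prE_inO (U : X.Opens) (c : Γ(Coh.structureModule X, U)) : (prE ℰ).app U ((inO ℰ).app U c) = 0 :=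
  congr(($(biprod.inr_fst (X := ℰ) (Y := Coh.structureModule X))).app U c)

theorem prO_inO (U : X.Opens) (c : Γ(Coh.structureModule X, U)) : (prO ℰ).app U ((inO ℰ).app U c) = c :=
  congr(($(biprod.inr_snd (X := ℰ) (Y := Coh.structureModule X))).app U c)

theorem total (U : X.Opens) (m : Γ(plusO ℰ, U)) :
    (inE ℰ).app U ((prE ℰ).app U m) + (inO ℰ).app U ((prO ℰ).app U m) = m :=
  congr(($(biprod.total (X := ℰ) (Y := Coh.structureModule X))).app U m)

variable (ℰ) in
/-- The section `(0, 1)`. -/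
def oneSec (U : X.Opens) : Γ(plusO ℰ, U) := (inO ℰ).app U (1 : Γ(X, U))

theorem oneSec_res {U V : X.Opens} (h : V ≤ U) :
    (plusO ℰ).presheaf.map (homOfLE h).op (oneSec ℰ U) = oneSec ℰ V := by
  rw [oneSec, oneSec, ← QCoh.app_res]
  exact congrArg ((inO ℰ).app V) (map_one (X.presheaf.map (homOfLE h).op).hom)

theorem eq_inE_add (U : X.Opens) (m : Γ(plusO ℰ, U)) :
    m = (inE ℰ).app U ((prE ℰ).app U m) + (show Γ(X, U) from (prO ℰ).app U m) • oneSec ℰ U := by
  conv_lhs => rw [← total U m]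
  congr 1
  rw [oneSec, ← Scheme.Modules.Hom.app_smul]
  exact congrArg ((inO ℰ).app U) (mul_one (show Γ(X, U) from (prO ℰ).app U m)).symm

variable [(plusO ℰ).IsQuasicoherent] (hA : RelSpec.IsSymAlg ℰ A j)

variable (ℰ) in
/-- `Sym(ℰ ⊕ O)`, graded. -/
def Sh : RelProj.QCGrAlg X :=
  grAlg (symAlg (plusO ℰ)) (jSym (plusO ℰ)) (isSymAlg_symAlg (plusO ℰ))

variable (ℰ) in
/-- `ℰ ⊕ O ⟶ Sym(ℰ ⊕ O)`. -/
def jS : plusO ℰ ⟶ (Sh ℰ).toModule := jSym (plusO ℰ)

variable (ℰ) in
theorem isGrSymAlg_Sh : RelProj.IsGrSymAlg (plusO ℰ) (Sh ℰ) (jS ℰ) :=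
  isGrSymAlg_grAlg (isSymAlg_symAlg (plusO ℰ))

/-- `Sym ℰ ⟶ Sym(ℰ ⊕ O)`. -/
def iota : A ⟶ (Sh ℰ).toQCAlg := (hA (Sh ℰ).toQCAlg (inE ℰ ≫ jS ℰ)).choose

theorem iota_j (U : X.Opens) (m : Γ(ℰ, U)) :
    ((iota hA).hom.app (op U)).hom (j.app U m) = (jS ℰ).app U ((inE ℰ).app U m) :=
  congr(($((hA (Sh ℰ).toQCAlg (inE ℰ ≫ jS ℰ)).choose_spec.1)).app U m)

theorem iota_str (U : X.Opens) (r : Γ(X, U)) :
    ((iota hA).hom.app (op U)).hom ((A.str.app (op U)).hom r) = ((Sh ℰ).str.app (op U)).hom r :=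
  congr($(NatTrans.congr_app (iota hA).comm (op U)).hom r)

variable (ℰ) in
/-- The new variable. -/
def zvar : (Sh ℰ).presheaf.obj (op ⊤) := (jS ℰ).app ⊤ (oneSec ℰ ⊤)

theorem restrictTop_zvar (U : X.Opens) :
    RelCone.restrictTop (Sh ℰ) (zvar ℰ) U = (jS ℰ).app U (oneSec ℰ U) := by
  rw [← oneSec_res (le_top : U ≤ ⊤)]
  exact (QCoh.app_res (jS ℰ) le_top _).symm

/-- The components of a section of `ℰ ⊕ O`, as a linear polynomial. -/
def back (j : ℰ ⟶ A.toModule) (U : X.Opens) :
    SymmetricAlgebra Γ(X, U) Γ(plusO ℰ, U) →+* Polynomial (A.presheaf.obj (op U) : Type u) :=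
  letI : Algebra Γ(X, U) (A.presheaf.obj (op U)) := (A.str.app (op U)).hom.toAlgebra
  (SymmetricAlgebra.lift (R := Γ(X, U)) (A := Polynomial (A.presheaf.obj (op U) : Type u))
    { toFun := fun m => Polynomial.C (show (A.presheaf.obj (op U) : Type u) from j.app U ((prE ℰ).app U m)) +
        (show Γ(X, U) from (prO ℰ).app U m) • Polynomial.X
      map_add' := fun a b => by
        rw [show (show Γ(X, U) from (prO ℰ).app U (a + b)) = (show Γ(X, U) from (prO ℰ).app U a) +
          (show Γ(X, U) from (prO ℰ).app U b) from map_add ((prO ℰ).app U).hom a b, add_smul]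
        have e : (show (A.presheaf.obj (op U) : Type u) from j.app U ((prE ℰ).app U (a + b))) =
            (show (A.presheaf.obj (op U) : Type u) from j.app U ((prE ℰ).app U a)) +
              (show (A.presheaf.obj (op U) : Type u) from j.app U ((prE ℰ).app U b)) :=
          (congrArg (j.app U) (map_add ((prE ℰ).app U).hom a b)).trans (map_add (j.app U).hom _ _)
        rw [e, map_add]
        abel
      map_smul' := fun r m => by
        rw [RingHom.id_apply, smul_add, smul_smul, Polynomial.smul_C]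
        congr 2
        · exact (congrArg (j.app U) ((prE ℰ).app_smul r m)).trans (j.app_smul r _)
        · exact (prO ℰ).app_smul r m }).toRingHom

theorem back_ι (U : X.Opens) (m : Γ(plusO ℰ, U)) :
    letI : Algebra Γ(X, U) (A.presheaf.obj (op U)) := (A.str.app (op U)).hom.toAlgebra
    back j U (SymmetricAlgebra.ι _ _ m) =
      Polynomial.C (show (A.presheaf.obj (op U) : Type u) from j.app U ((prE ℰ).app U m)) +
        (show Γ(X, U) from (prO ℰ).app U m) • Polynomial.X := by
  letI : Algebra Γ(X, U) (A.presheaf.obj (op U)) := (A.str.app (op U)).hom.toAlgebra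
  exact SymmetricAlgebra.lift_ι_apply _ m

variable [ℰ.IsQuasicoherent]

include hA in
/-- `Sym(ℰ ⊕ O)` is a polynomial ring over `Sym ℰ`. -/
theorem polyData : RelConeLib.PolyData (iota hA) (zvar ℰ) := by
  refine ⟨fun U hU => ?_, fun U hU => ?_⟩
  · rw [restrictTop_zvar]
    exact (isGrSymAlg_Sh ℰ).2 U hU _
  letI : Algebra Γ(X, U) (A.presheaf.obj (op U)) := (A.str.app (op U)).hom.toAlgebra
  let hS := (isGrSymAlg_Sh ℰ).1
  let z := RelCone.restrictTop (Sh ℰ) (zvar ℰ) U
  let ev := Polynomial.eval₂RingHom ((iota hA).hom.app (op U)).hom z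
  let aS := RingEquiv.ofBijective _ (affLift_bijective hS hU)
  have h1 : ev.comp (back j U) = affLift (jS ℰ) U := by
    refine ringHom_ext (fun r => ?_) fun m => ?_
    · rw [RingHom.comp_apply, affLift_algebraMap]
      have : back j U (algebraMap _ _ r) = Polynomial.C ((A.str.app (op U)).hom r) := AlgHom.commutes _ r
      rw [this, Polynomial.coe_eval₂RingHom, Polynomial.eval₂_C]
      exact iota_str hA U r
    · rw [RingHom.comp_apply, affLift_ι, back_ι, map_add, Algebra.smul_def, map_mul, Polynomial.algebraMap_apply,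
        Polynomial.coe_eval₂RingHom, Polynomial.eval₂_C, Polynomial.eval₂_C, Polynomial.eval₂_X, iota_j]
      refine Eq.trans ?_ (congrArg ((jS ℰ).app U) (eq_inE_add U m)).symm
      refine Eq.trans ?_ (map_add ((jS ℰ).app U).hom _ _).symm
      congr 1
      refine Eq.trans ?_ ((jS ℰ).app_smul _ _).symm
      exact congrArg₂ (· * ·) (iota_str hA U _) (restrictTop_zvar U)
  have h2 : ∀ a : (A.presheaf.obj (op U) : Type u), back j U (aS.symm (((iota hA).hom.app (op U)).hom a)) =
      Polynomial.C a := by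
    intro a
    induction a using affInduction hA hU with
    | hstr r =>
      rw [iota_str, ← affLift_algebraMap (jS ℰ) U r]
      exact (congrArg (back j U) (aS.symm_apply_apply (algebraMap _ _ r))).trans (AlgHom.commutes _ r)
    | hj m =>
      rw [iota_j, ← affLift_ι (jS ℰ) U _]
      refine (congrArg (back j U) (aS.symm_apply_apply _)).trans ((back_ι U _).trans ?_)
      rw [prE_inE, prO_inE]
      exact (congrArg _ (zero_smul Γ(X, U) (Polynomial.X : Polynomial (A.presheaf.obj (op U) : Type u)))).trans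
        (add_zero _)
    | hmul a b ha hb => rw [map_mul, map_mul, map_mul, ha, hb, map_mul]
    | hadd a b ha hb => rw [map_add, map_add, map_add, ha, hb, map_add]
  have h3 : ((back j U).comp aS.symm.toRingHom).comp ev = RingHom.id _ := by
    refine Polynomial.ringHom_ext (fun a => ?_) ?_
    · rw [RingHom.comp_apply, Polynomial.coe_eval₂RingHom, Polynomial.eval₂_C]
      exact h2 a
    · rw [RingHom.comp_apply, Polynomial.coe_eval₂RingHom, Polynomial.eval₂_X]
      show back j U (aS.symm z) = Polynomial.X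
      rw [show z = _ from restrictTop_zvar U, ← affLift_ι (jS ℰ) U _]
      refine (congrArg (back j U) (aS.symm_apply_apply _)).trans ((back_ι U _).trans ?_)
      rw [oneSec, prE_inO, prO_inO]
      refine (congrArg₂ (· + ·) ?_ (one_smul Γ(X, U) _)).trans (zero_add _)
      have h0 : (show (A.presheaf.obj (op U) : Type u) from j.app U (0 : Γ(ℰ, U))) = 0 := map_zero (j.app U).hom
      exact (congrArg Polynomial.C h0).trans (map_zero _)
  refine ⟨Function.LeftInverse.injective (g := fun s => back j U (aS.symm s)) fun x => RingHom.congr_fun h3 x, fun s => ?_⟩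
  obtain ⟨x, rfl⟩ := aS.surjective s
  exact ⟨back j U x, RingHom.congr_fun h1 x⟩

end Groth.Agent.CycLib.VecBdl
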