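import Groth.Agent.CycLib.VecBdl.Taut
import Groth.Agent.CycLib.RelDim
import Groth.Agent.EpiLocus.Universal
import Groth.Agent.KFlat.PullTensor
import Groth.Agent.ProjForm.Unit
import Groth.Agent.PicCl.Basic
import Groth.Agent.S1857

/-!
The splitting construction by iterated projective bundles.
-/

set_option autoImplicit false
set_option linter.style.haveILetI false
set_option backward.isDefEq.respectTransparency false
set_option maxHeartbeats 1000000

universe u

open CategoryTheory CategoryTheory.Limits AlgebraicGeometry TopologicalSpace Opposite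

noncomputable section

namespace Groth.Agent.CycLib.VecBdl

open Groth.Agent.CycLib.Dev Groth.Agent.CycLib.ProjBdl Groth.Agent.PullStalk.Sky

/-- The cycle pull-back along the identity. -/
theorem pullFun_id {X : Scheme.{u}} (δ : X → ℤ) (a : X → ℤ) (x : X) : Cyc.pullFun (𝟙 X) δ δ 0 a x = a x := by
  rw [Cyc.pullFun, if_pos (by simp)]
  have h : (IsLocalRing.maximalIdeal (X.presheaf.stalk ((𝟙 X : X ⟶ X) x))).map ((𝟙 X : X ⟶ X).stalkMap x).hom =
      IsLocalRing.maximalIdeal (X.presheaf.stalk x) := by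
    rw [Scheme.Hom.stalkMap_id]
    exact Ideal.map_id _
  rw [h]
  haveI : IsSimpleModule (X.presheaf.stalk x) (X.presheaf.stalk x ⧸ IsLocalRing.maximalIdeal (X.presheaf.stalk x)) :=
    isSimpleModule_iff_isCoatom.2 Ideal.IsMaximal.out
  rw [Module.length_eq_one_iff.2 inferInstance]
  simp

theorem isZero_of_rank_zero {X : Scheme.{u}} {E : X.Modules} (hE : FlatMod.IsFinLocFreeOfRank 0 E) : IsZero E := by
  have key : ∀ (W : X.Opens) (m : Γ(E, W)), m = 0 := by
    intro W m
    choose U hxU φ using hE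
    refine QCoh.eq_zero_of_locally_eq_zero E (U := fun x : X => W ⊓ U x) (fun x => inf_le_left)
      (fun x hx => Opens.mem_iSup.2 ⟨x, hx, hxU x⟩) m fun x => ?_
    let π : Fin 0 → (FlatMod.freeMod (U x : Scheme.{u}) 0 ⟶ Coh.structureModule (U x : Scheme.{u})) := fun j => j.elim0
    obtain ⟨e, he⟩ := LFFrame.exists_isFrame_of_split (M := E)
      (fun i => Sigma.ι (fun _ : Fin 0 => Coh.structureModule (U x : Scheme.{u})) i ≫ (φ x).some.inv)
      (fun j => (φ x).some.hom ≫ π j) (fun i => i.elim0) (by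
        rw [← cancel_epi (φ x).some.inv]
        apply Sigma.hom_ext
        exact fun j => j.elim0)
    obtain ⟨a, ha⟩ := (he (W ⊓ U x) inf_le_right).2 (QCoh.res E inf_le_left m)
    rw [← ha]
    simp [LFFrame.comb]
  refine (IsZero.iff_id_eq_zero E).2 (Scheme.Modules.hom_ext _ _ fun W => ?_)
  ext m
  exact key W m

/-- A projective bundle over an integral scheme is integral. -/
theorem isIntegral_of_cov {X P : Scheme.{u}} {p : P ⟶ X} {O1 : P.Modules} {r : ℕ} (L : Cov p O1 (r + 1))
    [IsIntegral X] [Flat p] [LocallyOfFinitePresentation p] {δ : X → ℤ} {δP : P → ℤ} (hd : Cyc.IsDimFun P δP)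
    (hδ : Cyc.DeltaCompat p δP δ) : IsIntegral P := by
  classical
  have hr : 1 ≤ r + 1 := by omega
  haveI : ∀ x : P, _root_.IsReduced (P.presheaf.stalk x) := fun x => by
    obtain ⟨m, q, hq⟩ := (L.T (p x)).cover x (L.mem _)
    rw [← hq]
    revert q
    generalize p x = z
    intro q _
    haveI := (L.T z).imm m
    haveI : Nonempty (L.U z) := ⟨⟨z, L.mem z⟩⟩
    haveI : IsReduced (Spec (CommRingCat.of (MvPolynomial (Var m) Γ(X, L.U z)))) := inferInstance
    exact isReduced_of_injective (asIso (((L.T z).c m).stalkMap q)).commRingCatIsoToRingEquiv.toRingHom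
      (asIso (((L.T z).c m).stalkMap q)).commRingCatIsoToRingEquiv.injective
  haveI : AlgebraicGeometry.IsReduced P := isReduced_of_isReduced_stalk P
  let η := L.lin hr 0 (genericPoint X)
  have hη : ∀ V : Set P, IsOpen V → V.Nonempty → η ∈ V := by
    intro V hV ⟨x, hx⟩
    have hop : IsOpen (p '' V) := Scheme.Hom.isOpenMap p V hV
    have hg : genericPoint X ∈ p '' V :=
      ((genericPoint_spec X).mem_open_set_iff hop).2 ⟨p x, trivial, x, hx, rfl⟩
    obtain ⟨y, hy, hyg⟩ := hg
    obtain ⟨m, q, rfl⟩ := (L.T (genericPoint X)).cover y (by rw [hyg]; exact L.mem _)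
    have hsp := (L.T (genericPoint X)).pt_specializes (L.mem _) (q := q) (S := (∅ : Finset (Var m))) hyg
      fun n hn => absurd hn (Finset.notMem_empty n)
    have hpt : (L.T (genericPoint X)).pt (L.mem _) m ∅ = η := by
      refine (L.T (genericPoint X)).eq_lin hr (L.mem _) hd hδ 0 (by omega) ((L.T _).p_pt _ m ∅) ?_ fun n h1 h2 => by omega
      rw [(L.T _).delta_pt (L.mem _) hd hδ m ∅]
      simp
    rw [hpt] at hsp
    exact hsp.mem_open hV hy
  haveI : Nonempty P := ⟨η⟩
  haveI : PreirreducibleSpace P := ⟨fun u v hu hv hu' hv' => by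
    obtain ⟨a, -, ha⟩ := hu'
    obtain ⟨b, -, hb⟩ := hv'
    exact ⟨η, trivial, hη u hu ⟨a, ha⟩, hη v hv ⟨b, hb⟩⟩⟩
  haveI : IrreducibleSpace P := { toNonempty := ⟨η⟩ }
  exact isIntegral_of_irreducibleSpace_of_isReduced P

/-- Iterated projective bundles split a locally free module, and pull back cycle classes injectively. -/
theorem exists_splitting : ∀ (r : ℕ) (X : Scheme.{u}) [IsIntegral X] (δ : X → ℤ), Cyc.IsSetup X δ →
    ∀ E : X.Modules, FlatMod.IsFinLocFreeOfRank r E →
    ∃ (Y : Scheme.{u}) (φ : Y ⟶ X) (c : ℕ) (δY : Y → ℤ),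
      IsIntegral Y ∧ Smooth φ ∧ IsProper φ ∧ Cyc.HasRelDim φ c ∧ Cyc.IsSetup Y δY ∧ Cyc.DeltaCompat φ δY δ ∧
      (∀ (d : ℤ) (α : AlgebraicCycle X ℤ), α ∈ Cyc.Zk X δ d →
        ∀ β : AlgebraicCycle Y ℤ, (∀ y : Y, β y = Cyc.pullFun φ δY δ c (fun x => α x) y) →
          Cyc.RatEquivZero δY (d + c) β → Cyc.RatEquivZero δ d α) ∧
      ∃ (F : Fin (r + 1) → Y.Modules) (ι : ∀ i : Fin r, F i.castSucc ⟶ F i.succ),
        IsZero (F 0) ∧ Nonempty (F (Fin.last r) ≅ (Scheme.Modules.pullback φ).obj E) ∧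
        ∀ i : Fin r, Mono (ι i) ∧ PicF.IsInvertible (cokernel (ι i)) := by
  intro r
  induction r with
  | zero =>
    intro X _ δ hX E hE
    have hid : Cyc.DeltaCompat (𝟙 X) δ δ := deltaCompat_preimmersion (𝟙 X) δ
    refine ⟨X, 𝟙 X, 0, δ, inferInstance, inferInstance, inferInstance, ?_, hX, hid, fun d α _ β hβ h => ?_,
      fun _ => (Scheme.Modules.pullback (𝟙 X)).obj E, fun i => i.elim0, ?_, ⟨Iso.refl _⟩, fun i => i.elim0⟩
    · refine hasRelDim_of_trdeg _ fun x _ => ?_
      obtain ⟨n, hn, hn'⟩ := hid x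
      rw [hn]
      have : n = 0 := by
        have : δ ((𝟙 X : X ⟶ X) x) = δ x := rfl
        omega
      simp [this]
    · have e : β = α := Function.locallyFinsuppWithin.ext fun y => by rw [hβ, Nat.cast_zero, pullFun_id]
      simpa [e] using h
    · exact (Scheme.Modules.pullback (𝟙 X)).map_isZero (isZero_of_rank_zero hE)
  | succ r ih =>
    intro X _ δ hX E hE
    classical
    haveI := hX.1
    have hq : Coh.IsQCoh E := PerfTri.Betti.isQuasicoherent_of_isFinLocFree (FinCov71.isFinLocFree_of_rank hE)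
    obtain ⟨P, p, O1, q, L, hp, hsm, hinv, hepi, hK⟩ := exists_projBundle hq hE
    haveI := hp
    haveI := hsm
    haveI := hepi
    obtain ⟨δP, hP, hδP⟩ := exists_setup p hX
    haveI := hP.1
    have hd := hP.2.2
    haveI : IsIntegral P := isIntegral_of_cov L hd hδP
    obtain ⟨Y, ψ, c, δY, hYi, hψs, hψp, hψr, hY, hψδ, hinj, F, ι, hF0, ⟨eF⟩, hι⟩ := ih P δP hP (kernel q) hK
    haveI := hψs
    haveI := hψp
    have hs := L.shiftBy hd hδP
    have hpr : Cyc.HasRelDim p r := hasRelDim_of_trdeg p fun x hx => by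
      obtain ⟨n, hn, hn'⟩ := hδP x
      have := hs x hx
      rw [hn]
      have : n = r := by push_cast at *; omega
      rw [this]
    obtain ⟨hrel, hcomp⟩ : Cyc.HasRelDim (ψ ≫ p) (c + r) ∧ _ :=
      ⟨(S1857.result Y P X δY δP δ hY hP hX ψ p c r hψr hpr hψδ hδP 0).1, fun k =>
        (S1857.result Y P X δY δP δ hY hP hX ψ p c r hψr hpr hψδ hδP k).2⟩
    refine ⟨Y, ψ ≫ p, c + r, δY, hYi, inferInstance, inferInstance, hrel, hY, deltaCompat_comp hψδ hδP,
      fun d α hα β hβ h => ?_, ?_⟩
    · have hR : 1 ≤ r + 1 := by omega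
      have hk : d + ((r + 1 : ℕ) : ℤ) - 1 = d + r := by push_cast; ring
      have hplc : IsCyc δP (d + r) (Cyc.pullFun p δP δ (((r + 1 : ℕ) : ℤ) - 1) ⇑α) := hk ▸ L.isCyc_pull hR hd hδP α hα
      obtain ⟨Φ, hΦk, hΦ⟩ := hplc.exists_cycle
      have hr1 : (((r + 1 : ℕ) : ℤ) - 1) = (r : ℤ) := by push_cast; ring
      have h0 : Cyc.RatEquivZero δP (d + r) Φ := by
        refine hinj (d + r) Φ hΦk β (fun y => ?_) (by rwa [show d + ((c + r : ℕ) : ℤ) = d + r + c by push_cast; ring] at h)
        rw [hβ, show (fun x => Φ x) = Cyc.pullFun p δP δ r ⇑α by rw [← hr1, ← hΦ]]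
        rw [show ((c + r : ℕ) : ℤ) = (c : ℤ) + r by push_cast; rfl]
        exact (congrFun (hcomp d α hα) y).symm
      choose b hb using fun ξ : P => exists_isBas hinv ξ
      let t : Fin (r + 1) → ℕ → (ξ : P) → Cyc.secFibre O1 ξ := fun _ _ ξ => Submodule.Quotient.mk (b ξ)
      have ht : ∀ a m ξ, t a m ξ ≠ 0 := fun _ _ ξ => mk_ne_zero_of_isBas (hb ξ)
      let o₀ : Fin (r + 1) := ⟨0, by omega⟩
      let αs : Fin (r + 1) → AlgebraicCycle X ℤ := Function.update (fun _ => 0) o₀ α
      have hαs : ∀ a : Fin (r + 1), αs a ∈ Cyc.Zk X δ (d + ((a : ℕ) : ℤ)) := fun a x hx => by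
        by_cases h : a = o₀
        · subst h
          simp only [αs, Function.update_self]
          exact hα x (by simpa [o₀] using hx)
        · simp only [αs, Function.update_of_ne h]
          rfl
      have hsum : ⇑Φ = ∑ a : Fin (r + 1), Cov.iter δP (Cyc.pullFun p δP δ (((r + 1 : ℕ) : ℤ) - 1) ⇑(αs a)) (t a) (a : ℕ) := by
        rw [Finset.sum_eq_single o₀ (fun a _ ha => by
          simp only [αs, Function.update_of_ne ha]
          rw [pullFun_zero, iter_zero]) (fun h => absurd (Finset.mem_univ o₀) h), hΦ]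
        simp only [αs, Function.update_self]
        rfl
      have := L.injective hR hd hδP hinv hX hP d αs hαs t ht Φ hsum (hk.symm ▸ h0) o₀
      simpa [αs, o₀] using this
    · let a : (Scheme.Modules.pullback ψ).obj (kernel q) ⟶ (Scheme.Modules.pullback ψ).obj ((Scheme.Modules.pullback p).obj E) :=
        (Scheme.Modules.pullback ψ).map (kernel.ι q)
      let eq : cokernel (kernel.ι q) ≅ O1 :=
        IsColimit.coconePointUniqueUpToIso (cokernelIsCokernel _)
          (Abelian.epiIsCokernelOfKernel _ (kernelIsKernel q))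
      have hC : PicF.IsInvertible (cokernel (kernel.ι q)) := PicCl.isInvertible_of_iso eq.symm hinv
      haveI : Mono a := EpiLocus.mono_pullback_of_isFinLocFree_cokernel (kernel.ι q)
        (ProjForm.isFinLocFree_of_isInvertible hC) ψ
      have hCa : PicF.IsInvertible (cokernel a) :=
        PicCl.isInvertible_of_iso (PreservesCokernel.iso (Scheme.Modules.pullback ψ) (kernel.ι q))
          (PicCl.isInvertible_pullback ψ hC)
      let a' : F (Fin.last r) ⟶ (Scheme.Modules.pullback (ψ ≫ p)).obj E :=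
        eF.hom ≫ a ≫ (Scheme.Modules.pullbackComp ψ p).hom.app E
      have ha' : Mono a' ∧ PicF.IsInvertible (cokernel a') :=
        ⟨inferInstance, PicCl.isInvertible_of_iso
          ((cokernelCompIsIso a ((Scheme.Modules.pullbackComp ψ p).hom.app E)).symm ≪≫
            (cokernelEpiComp eF.hom _).symm) hCa⟩
      let G : Fin (r + 1 + 1) → Y.Modules := Fin.snoc F ((Scheme.Modules.pullback (ψ ≫ p)).obj E)
      have e1 : ∀ i : Fin (r + 1), G i.castSucc = F i := fun i => Fin.snoc_castSucc _ _ _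
      have e2 : G (Fin.last (r + 1)) = (Scheme.Modules.pullback (ψ ≫ p)).obj E := Fin.snoc_last _ _
      have key : ∀ i : Fin (r + 1), ∃ f : G i.castSucc ⟶ G i.succ, Mono f ∧ PicF.IsInvertible (cokernel f) := by
        intro i
        induction i using Fin.lastCases with
        | last =>
          have e2' : G (Fin.last r).succ = (Scheme.Modules.pullback (ψ ≫ p)).obj E := by rw [Fin.succ_last]; exact e2
          refine ⟨eqToHom (e1 _) ≫ a' ≫ eqToHom e2'.symm, ?_, ?_⟩
          · haveI := ha'.1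
            infer_instance
          · exact PicCl.isInvertible_of_iso
              ((cokernelCompIsIso a' (eqToHom e2'.symm)).symm ≪≫ (cokernelEpiComp (eqToHom (e1 _)) _).symm) ha'.2
        | cast i =>
          have e3 : G i.castSucc.succ = F i.succ := by rw [Fin.succ_castSucc]; exact e1 _
          refine ⟨eqToHom (e1 _) ≫ ι i ≫ eqToHom e3.symm, ?_, ?_⟩
          · haveI := (hι i).1
            infer_instance
          · exact PicCl.isInvertible_of_iso
              ((cokernelCompIsIso (ι i) (eqToHom e3.symm)).symm ≪≫ (cokernelEpiComp (eqToHom (e1 _)) _).symm) (hι i).2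
      choose f hf using key
      refine ⟨G, f, ?_, ⟨eqToIso e2⟩, hf⟩
      have : G 0 = F 0 := e1 0
      rw [this]
      exact hF0

end Groth.Agent.CycLib.VecBdl
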