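import Groth.Agent.CycLib.VecBdl.Completion
import Groth.Agent.FinCov71.Rank
import Groth.Agent.Desc44.ProjBundle.Quot

/-!
The projective bundle of a locally free module, with its tautological quotient.
-/

set_option autoImplicit false
set_option linter.style.haveILetI false
set_option backward.isDefEq.respectTransparency false
set_option maxHeartbeats 1000000

universe u

open CategoryTheory CategoryTheory.Limits AlgebraicGeometry TopologicalSpace Opposite

noncomputable section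

namespace Groth.Agent.CycLib.VecBdl

open Groth.Agent.CycLib.ProjBdl Groth.Agent.PullStalk.Sky
open Scheme (AffineZariskiSite)

section value

variable {X P : Scheme.{u}} {𝒮 : RelProj.QCGrAlg X} {p : P ⟶ X}
  {chart : ∀ (U : X.Opens) (hU : IsAffineOpen U), (((p ⁻¹ᵁ U : P.Opens) : Scheme.{u}) ≅ Proj (𝒮.deg U hU))}
  {O1 : P.Modules}
  (lam : ∀ (U : X.Opens) (hU : IsAffineOpen U),
    O1 ⟶ (Scheme.Modules.pushforward (RelProj.emb p chart U hU)).obj (GrTwist.twist (𝒮.deg U hU) 1))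

/-- `σ` is the section given by `a`. -/
def IsVal (U : X.Opens) (hU : IsAffineOpen U) (a : 𝒮.presheaf.obj (op U)) (σ : Γ(O1, p ⁻¹ᵁ U)) : Prop :=
  ∀ (V : P.Opens) (hV : V ≤ p ⁻¹ᵁ U) (y : (RelProj.emb p chart U hU ⁻¹ᵁ V : (Proj (𝒮.deg U hU)).Opens)),
    GrTwist.val (V := RelProj.emb p chart U hU ⁻¹ᵁ V) ((lam U hU).app V (O1.presheaf.map (homOfLE hV).op σ)) y =
      algebraMap _ (GrTwist.Loc (𝒮.deg U hU) y.1) a

variable {lam} (hP : RelProj.IsRelProj 𝒮 p chart) (hO1 : RelProj.IsRelTwist 𝒮 p chart 1 O1 lam)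

include hO1 in
theorem IsVal.unique {U : X.Opens} {hU : IsAffineOpen U} {a : 𝒮.presheaf.obj (op U)}
    {σ σ' : Γ(O1, p ⁻¹ᵁ U)} (h : IsVal lam U hU a σ) (h' : IsVal lam U hU a σ') : σ = σ' := by
  have he : ∀ τ : Γ(O1, p ⁻¹ᵁ U), O1.presheaf.map (homOfLE (le_refl (p ⁻¹ᵁ U))).op τ = τ := fun τ => by
    rw [show (homOfLE (le_refl (p ⁻¹ᵁ U))).op = 𝟙 _ from Subsingleton.elim _ _, CategoryTheory.Functor.map_id]
    rfl
  refine (hO1.bijective U hU _ le_rfl).1 (Subtype.ext (funext fun y => Subtype.ext ?_))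
  have h1 := h _ le_rfl y
  have h2 := h' _ le_rfl y
  rw [he] at h1 h2
  exact h1.trans h2.symm

include hP hO1 in
theorem IsVal.res {U : X.Opens} {hU : IsAffineOpen U} {a : 𝒮.presheaf.obj (op U)} {σ : Γ(O1, p ⁻¹ᵁ U)}
    (h : IsVal lam U hU a σ) (f : Γ(X, U)) :
    IsVal lam (X.basicOpen f) (hU.basicOpen f) ((𝒮.presheaf.map (homOfLE (X.basicOpen_le f)).op).hom a)
      (O1.presheaf.map (homOfLE (p.preimage_mono (X.basicOpen_le f))).op σ) := by
  intro V hV y
  rw [LFFrame.res_res]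
  have hy' : RelProj.emb p chart U hU (ProjectiveSpectrum.comap (𝒮.res hU (hU.basicOpen f) (X.basicOpen_le f))
      (𝒮.irrelevant_le_map U hU f) y.1) ∈ V := by
    have e := RelProjLib.map_res_emb_affine 𝒮 hP hU (hU.basicOpen f) (X.basicOpen_le f)
    have h0 : RelProj.emb p chart (X.basicOpen f) (hU.basicOpen f) y.1 ∈ V := y.2
    exact Eq.mp (congrArg (fun g => g y.1 ∈ V) e.symm) h0
  refine (hO1.compat U hU f V _ y.1 y.2 hy').trans ?_
  refine (congrArg (GrTwist.locMap _ (𝒮.irrelevant_le_map U hU f) y.1)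
    (h V (hV.trans (p.preimage_mono (X.basicOpen_le f))) ⟨_, hy'⟩)).trans ?_
  exact Localization.localRingHom_to_map _ _ _ _ _

include hO1 in
theorem exists_isVal (U : X.Opens) (hU : IsAffineOpen U) {a : 𝒮.presheaf.obj (op U)} (ha : a ∈ 𝒮.deg U hU 1) :
    ∃ σ : Γ(O1, p ⁻¹ᵁ U), IsVal lam U hU a σ := by
  obtain ⟨σ, hσ⟩ := (hO1.bijective U hU _ le_rfl).2
    ((GrTwist.twist (𝒮.deg U hU) 1).presheaf.map (homOfLE le_top).op
      (GrTwist.globalOf (𝒮.deg U hU) (i := 1) ⟨a, ha⟩))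
  refine ⟨σ, fun V hV y => ?_⟩
  let em := RelProj.emb p chart U hU
  have e : (lam U hU).app V (O1.presheaf.map (homOfLE hV).op σ) =
    (GrTwist.twist (𝒮.deg U hU) 1).presheaf.map (homOfLE (em.preimage_mono hV)).op
      ((GrTwist.twist (𝒮.deg U hU) 1).presheaf.map (homOfLE le_top).op
        (GrTwist.globalOf (𝒮.deg U hU) (i := 1) ⟨a, ha⟩)) :=
    (NatTrans.naturality_apply (lam U hU).mapPresheaf (homOfLE hV).op σ).trans (congrArg _ hσ)
  rw [e]
  exact Localization.mk_one_eq_algebraMap _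

theorem IsVal.add {U : X.Opens} {hU : IsAffineOpen U} {a b : 𝒮.presheaf.obj (op U)} {σ τ : Γ(O1, p ⁻¹ᵁ U)}
    (h : IsVal lam U hU a σ) (h' : IsVal lam U hU b τ) : IsVal lam U hU (a + b) (σ + τ) := by
  intro V hV y
  have e := (congrArg ((lam U hU).app V) (map_add (O1.presheaf.map (homOfLE hV).op).hom σ τ)).trans
    (map_add ((lam U hU).app V).hom _ _)
  refine (congrArg (fun z => GrTwist.val (V := RelProj.emb p chart U hU ⁻¹ᵁ V) z y) e).trans ?_
  exact (congrArg₂ (· + ·) (h V hV y) (h' V hV y)).trans (map_add _ a b).symm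

include hP in
theorem IsVal.smul {U : X.Opens} {hU : IsAffineOpen U} {a : 𝒮.presheaf.obj (op U)} {σ : Γ(O1, p ⁻¹ᵁ U)}
    (h : IsVal lam U hU a σ) (c : Γ(X, U)) :
    IsVal lam U hU ((𝒮.str.app (op U)).hom c * a) (p.app U c • σ) := by
  intro V hV y
  let 𝒜 := 𝒮.deg U hU
  let em := RelProj.emb p chart U hU
  let c' : Γ(P, V) := (P.presheaf.map (homOfLE hV).op).hom (p.app U c)
  have e : O1.presheaf.map (homOfLE hV).op (p.app U c • σ) = c' • O1.presheaf.map (homOfLE hV).op σ :=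
    Scheme.Modules.map_smul O1 (homOfLE hV) (p.app U c) σ
  refine (congrArg (fun z => GrTwist.val (V := em ⁻¹ᵁ V) ((lam U hU).app V z) y) e).trans ?_
  refine (val_lm_smul em (lam U hU) V c' _ y).trans ?_
  rw [h V hV y, map_mul]
  congr 1
  obtain ⟨d, hd, f, hf, hfy⟩ : ∃ d, 0 < d ∧ ∃ f ∈ 𝒜 d, f ∉ (show ProjectiveSpectrum 𝒜 from y.1).asHomogeneousIdeal := by
    by_contra hc
    push Not at hc
    exact (show ProjectiveSpectrum 𝒜 from y.1).not_irrelevant_le
      ((HomogeneousIdeal.irrelevant_le _).2 fun i hi a ha => hc i hi a ha)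
  let a0 := HomogeneousLocalization.fromZeroRingHom 𝒜 (Submonoid.powers f) ((𝒮.strZero U hU).hom c)
  let D := (em ⁻¹ᵁ V) ⊓ Proj.basicOpen 𝒜 f
  have hD1 : D ≤ em ⁻¹ᵁ V := inf_le_left
  have hD2 : D ≤ Proj.basicOpen 𝒜 f := inf_le_right
  let ι := Proj.awayι 𝒜 f hf hd
  have hψ : ι ≫ em ≫ p = Spec.map (𝒮.strZero U hU ≫
      CommRingCat.ofHom (HomogeneousLocalization.fromZeroRingHom 𝒜 (Submonoid.powers f))) ≫ hU.fromSpec := by
    show ι ≫ ((chart U hU).inv ≫ (p ⁻¹ᵁ U).ι) ≫ p = _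
    rw [Category.assoc, ← hP.chart_over U hU, Iso.inv_hom_id_assoc, Proj.awayι_toSpecZero_assoc, Spec.map_comp,
      Category.assoc]
  have hpre : D ≤ (em ≫ p) ⁻¹ᵁ U := fun z hz => hV (hD1 hz)
  have hB : Proj.basicOpen 𝒜 f ≤ (em ≫ p) ⁻¹ᵁ U := fun z _ => RelProjLib.emb_mem_base 𝒮 U hU z
  have key : (em ≫ p).appLE U (Proj.basicOpen 𝒜 f) hB c = Proj.awayToSection 𝒜 f a0 := by
    have hle : (⊤ : (Spec (CommRingCat.of (HomogeneousLocalization.Away 𝒜 f))).Opens) ≤ ι ⁻¹ᵁ Proj.basicOpen 𝒜 f := by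
      rw [← Proj.opensRange_awayι 𝒜 f hf hd, Scheme.Hom.preimage_opensRange]
    have hinj : Function.Injective (ι.appLE (Proj.basicOpen 𝒜 f) ⊤ hle) := by
      have hr : Proj.basicOpen 𝒜 f ≤ ι.opensRange := (Proj.opensRange_awayι 𝒜 f hf hd).ge
      haveI := Scheme.Hom.isIso_app ι (Proj.basicOpen 𝒜 f) hr
      haveI : IsIso (homOfLE hle).op :=
        ⟨(homOfLE (le_top : ι ⁻¹ᵁ Proj.basicOpen 𝒜 f ≤ ⊤)).op, Subsingleton.elim _ _, Subsingleton.elim _ _⟩
      haveI : IsIso (ι.appLE (Proj.basicOpen 𝒜 f) ⊤ hle) := by unfold Scheme.Hom.appLE; infer_instance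
      exact (ConcreteCategory.bijective_of_isIso _).1
    refine hinj ?_
    rw [awayι_appLE hf hd a0 hle, ← ConcreteCategory.comp_apply, Scheme.Hom.appLE_comp_appLE]
    simp only [hψ]
    rw [← Scheme.Hom.appLE_comp_appLE (Spec.map _) hU.fromSpec U ⊤ ⊤ hU.fromSpec_preimage_self.ge
      (fun _ _ => trivial)]
    have hfs : hU.fromSpec.appLE U ⊤ hU.fromSpec_preimage_self.ge = (Scheme.ΓSpecIso Γ(X, U)).inv := by
      simp only [Scheme.Hom.appLE, IsAffineOpen.fromSpec_app_self, Category.assoc]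
      rw [← Functor.map_comp, show (eqToHom hU.fromSpec_preimage_self).op ≫ (homOfLE hU.fromSpec_preimage_self.ge).op =
        𝟙 _ from Subsingleton.elim _ _, CategoryTheory.Functor.map_id, Category.comp_id]
    rw [ConcreteCategory.comp_apply, hfs]
    refine Eq.trans ?_ (ConcreteCategory.congr_hom (Scheme.ΓSpecIso_inv_naturality
      (𝒮.strZero U hU ≫ CommRingCat.ofHom (HomogeneousLocalization.fromZeroRingHom 𝒜 (Submonoid.powers f)))) c).symm
    rw [Scheme.Hom.appTop, ← Scheme.Hom.appLE_eq_app]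
    rfl
  have hyD : y.1 ∈ D := ⟨y.2, hfy⟩
  have e2 : (Proj 𝒜).presheaf.map (homOfLE hD1).op (em.app V c') =
      (Proj 𝒜).presheaf.map (homOfLE hD2).op (Proj.awayToSection 𝒜 f a0) := by
    rw [← key]
    have e4 : p.app U ≫ P.presheaf.map (homOfLE hV).op ≫ em.app V ≫ (Proj 𝒜).presheaf.map (homOfLE hD1).op =
        (em ≫ p).appLE U (Proj.basicOpen 𝒜 f) hB ≫ (Proj 𝒜).presheaf.map (homOfLE hD2).op := by
      rw [Scheme.Hom.naturality_assoc, Scheme.Hom.appLE, Scheme.Hom.comp_app, Category.assoc, Category.assoc,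
        ← Functor.map_comp, ← Functor.map_comp]
      rfl
    exact ConcreteCategory.congr_hom e4 c
  have e3 := congrArg (fun s : GrTwist.O (𝒜 := 𝒜) (op D) => (s.1 ⟨y.1, hyD⟩).val) e2
  refine e3.trans ?_
  refine (val_awayToSection a0 ⟨y.1, hfy⟩).trans ?_
  show IsLocalization.map _ _ _ (algebraMap _ _ ((𝒮.str.app (op U)).hom c)) = _
  rw [IsLocalization.map_eq]
  rfl

end value

section taut

variable {X : Scheme.{u}} {E : X.Modules} {𝒮 : RelProj.QCGrAlg X} {j : E ⟶ 𝒮.toModule}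
  (hS : RelProj.IsGrSymAlg E 𝒮 j) {P : Scheme.{u}} {p : P ⟶ X}
  {chart : ∀ (U : X.Opens) (hU : IsAffineOpen U), (((p ⁻¹ᵁ U : P.Opens) : Scheme.{u}) ≅ Proj (𝒮.deg U hU))}
  {O1 : P.Modules}
  {lam : ∀ (U : X.Opens) (hU : IsAffineOpen U),
    O1 ⟶ (Scheme.Modules.pushforward (RelProj.emb p chart U hU)).obj (GrTwist.twist (𝒮.deg U hU) 1)}
  (hP : RelProj.IsRelProj 𝒮 p chart) (hO1 : RelProj.IsRelTwist 𝒮 p chart 1 O1 lam)

/-- The section given by a section of `E`. -/
def secOf (U : X.Opens) (hU : IsAffineOpen U) (m : Γ(E, U)) : Γ(O1, p ⁻¹ᵁ U) :=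
  (exists_isVal hO1 U hU (hS.2 U hU m)).choose

theorem isVal_secOf (U : X.Opens) (hU : IsAffineOpen U) (m : Γ(E, U)) :
    IsVal lam U hU (show 𝒮.presheaf.obj (op U) from j.app U m) (secOf hS hO1 U hU m) :=
  (exists_isVal hO1 U hU (hS.2 U hU m)).choose_spec

include hS hP hO1 in
/-- The map `E ⟶ p_* O(1)`. -/
theorem exists_toPush : ∃ φ : E ⟶ (Scheme.Modules.pushforward p).obj O1,
    ∀ (U : X.Opens) (hU : IsAffineOpen U) (m : Γ(E, U)),
      IsVal lam U hU (show 𝒮.presheaf.obj (op U) from j.app U m) (φ.app U m) := by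
  let F : ∀ (U : X.Opens) (hU : IsAffineOpen U), Γ(E, U) →+ Γ(O1, p ⁻¹ᵁ U) := fun U hU =>
    AddMonoidHom.mk' (secOf hS hO1 U hU) fun a b => (isVal_secOf hS hO1 U hU (a + b)).unique hO1
      (by rw [show (show 𝒮.presheaf.obj (op U) from j.app U (a + b)) =
            (show 𝒮.presheaf.obj (op U) from j.app U a) + (show 𝒮.presheaf.obj (op U) from j.app U b) from
              map_add (j.app U).hom a b]
          exact (isVal_secOf hS hO1 U hU a).add (isVal_secOf hS hO1 U hU b))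
  let η : (AffineZariskiSite.toOpensFunctor X).op ⋙ E.presheaf ⟶
      (AffineZariskiSite.toOpensFunctor X).op ⋙ ((Scheme.Modules.pushforward p).obj O1).presheaf :=
    { app := fun U => AddCommGrpCat.ofHom (F U.unop.1 U.unop.2)
      naturality := fun U V i => by
        obtain ⟨U⟩ := U; obtain ⟨V⟩ := V
        obtain ⟨f, hf⟩ := i.unop.le
        obtain ⟨V, hV⟩ := V
        change X.basicOpen f = V at hf
        subst hf
        ext m
        change secOf hS hO1 _ hV (E.presheaf.map (homOfLE (X.basicOpen_le f)).op m) =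
          O1.presheaf.map (homOfLE (p.preimage_mono (X.basicOpen_le f))).op (secOf hS hO1 U.1 U.2 m)
        refine (isVal_secOf hS hO1 _ hV _).unique hO1 ?_
        have h := (isVal_secOf hS hO1 U.1 U.2 m).res hP hO1 f
        rw [show (show 𝒮.presheaf.obj (op (X.basicOpen f)) from j.app _ (E.presheaf.map (homOfLE (X.basicOpen_le f)).op m)) =
          (𝒮.presheaf.map (homOfLE (X.basicOpen_le f)).op).hom (show 𝒮.presheaf.obj (op U.1) from j.app U.1 m) from
            QCoh.app_res j (X.basicOpen_le f) m]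
        exact h }
  refine ⟨SymLib.homOfSite η fun U hU r m => ?_, fun U hU m => ?_⟩
  · change secOf hS hO1 U hU (r • m) = p.app U r • secOf hS hO1 U hU m
    refine (isVal_secOf hS hO1 U hU _).unique hO1 ?_
    rw [show (show 𝒮.presheaf.obj (op U) from j.app U (r • m)) =
      (𝒮.str.app (op U)).hom r * (show 𝒮.presheaf.obj (op U) from j.app U m) from j.app_smul r m]
    exact (isVal_secOf hS hO1 U hU m).smul hP r
  · rw [SymLib.homOfSite_app _ _ U hU]
    exact isVal_secOf hS hO1 U hU m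

end taut

section kernel

open Groth.Agent.PullStalk.Exact

/-- Morphisms surjective on all stalks are epimorphisms. -/
theorem epi_of_stalk_surjective {X : Scheme.{u}} {M N : X.Modules} (φ : M ⟶ N)
    (h : ∀ x, Function.Surjective (stalkLin φ x)) : Epi φ := by
  refine ⟨fun {P} a b hab => ?_⟩
  ext U m
  refine TopCat.Presheaf.section_ext ⟨_, P.isSheaf⟩ U _ _ fun x hx => ?_
  obtain ⟨t, ht⟩ := h x (germM N U x hx m)
  obtain ⟨W, hxW, m', rfl⟩ := exists_germM_eq M x t
  rw [stalkLin_germ] at ht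
  have key : ∀ ψ : N ⟶ P, germM P U x hx (ψ.app U m) = germM P W x hxW ((φ ≫ ψ).app W m') := by
    intro ψ
    refine (stalkLin_germ ψ U x hx m).symm.trans ?_
    rw [← ht]
    exact stalkLin_germ ψ W x hxW _
  exact (key a).trans ((congrArg (fun ψ => germM P W x hxW (Scheme.Modules.Hom.app ψ W m')) hab).trans
    (key b).symm)

variable {X P : Scheme.{u}} {p : P ⟶ X} {O1 : P.Modules} {U : X.Opens} {hU : IsAffineOpen U} {r : ℕ}
  {F : P.Modules} (q : F ⟶ O1) {ε : Fin (r + 1) → Γ(F, p ⁻¹ᵁ U)}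

/-- The kernel of the tautological quotient has a frame on each chart. -/
theorem exists_kernel_frame (hε : LFFrame.IsFrame F (p ⁻¹ᵁ U) ε) (T : Charts p O1 (r + 1) U hU) (m : Fin (r + 1))
    (hq : ∀ n, q.app (p ⁻¹ᵁ U) (ε n) = T.sec n) :
    ∃ g : Fin r → Γ(kernel q, (haveI := T.imm m; (T.c m).opensRange)),
      LFFrame.IsFrame (kernel q) _ g := by
  classical
  haveI := T.imm m
  let D := (T.c m).opensRange
  have hD : D ≤ p ⁻¹ᵁ U := T.le m
  let ε' : Fin (r + 1) → Γ(F, D) := fun n => F.presheaf.map (homOfLE hD).op (ε n)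
  let w : Fin r → Γ(F, D) := fun j => ε' (m.succAbove j) - T.fn m (m.succAbove j) • ε' m
  have hqε : ∀ n, q.app D (ε' n) = T.fn m n • O1.presheaf.map (homOfLE hD).op (T.sec m) := fun n => by
    refine (QCoh.app_res q hD (ε n)).trans ?_
    refine (congrArg (QCoh.res O1 hD) (hq n)).trans ?_
    exact T.rel m n
  have hfm : T.fn m m = 1 := by
    apply (T.bijective_restr m).1
    rw [map_one]
    have h := T.fn_eq m m
    rw [dif_pos rfl, map_one] at h
    exact (congrArg (Scheme.ΓSpecIso (CommRingCat.of (MvPolynomial (Var m) Γ(X, U)))).hom h).trans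
      (map_one (Scheme.ΓSpecIso (CommRingCat.of (MvPolynomial (Var m) Γ(X, U)))).hom.hom)
  have hw : ∀ j, q.app D (w j) = 0 := fun j => by
    refine (map_sub (q.app D).hom _ _).trans (sub_eq_zero.2 ?_)
    refine Eq.trans ?_ (q.app_smul _ _).symm
    refine (hqε _).trans ?_
    refine congrArg (T.fn m (m.succAbove j) • ·) (Eq.trans ?_ (hqε m).symm)
    rw [hfm, one_smul]
  let S := ShortComplex.mk (kernel.ι q) q (kernel.condition q)
  have hS : S.Exact := ShortComplex.exact_of_f_is_kernel _ (kernelIsKernel _)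
  choose g hg using fun j => QCoh.exists_app_eq_of_app_eq_zero S hS D (w j) (hw j)
  refine ⟨g, fun V hV => ?_⟩
  let ρ : Γ(P, D) →+* Γ(P, V) := (P.presheaf.map (homOfLE hV).op).hom
  have hι : ∀ a : Fin r → Γ(P, V), (kernel.ι q).app V (LFFrame.comb (kernel q) g hV a) =
      LFFrame.comb F ε (hV.trans hD) (Fin.insertNth m (-∑ j, a j * ρ (T.fn m (m.succAbove j))) a) := by
    intro a
    simp only [LFFrame.comb]
    refine (map_sum ((kernel.ι q).app V).hom _ _).trans ?_
    rw [Fin.sum_univ_succAbove _ m, Fin.insertNth_apply_same]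
    simp only [Fin.insertNth_apply_succAbove]
    have hres : ∀ n, F.presheaf.map (homOfLE hV).op (ε' n) = F.presheaf.map (homOfLE (hV.trans hD)).op (ε n) :=
      fun n => LFFrame.res_res _ _ _ _
    have hterm : ∀ j, ((kernel.ι q).app V).hom (a j • (kernel q).presheaf.map (homOfLE hV).op (g j)) =
        a j • F.presheaf.map (homOfLE (hV.trans hD)).op (ε (m.succAbove j)) -
          (a j * ρ (T.fn m (m.succAbove j))) • F.presheaf.map (homOfLE (hV.trans hD)).op (ε m) := fun j => by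
      refine ((kernel.ι q).app_smul _ _).trans ?_
      rw [mul_smul, ← smul_sub]
      refine congrArg (a j • ·) ?_
      refine (QCoh.app_res (kernel.ι q) hV (g j)).trans ?_
      refine (congrArg (QCoh.res F hV) (hg j)).trans ?_
      refine (map_sub (F.presheaf.map (homOfLE hV).op).hom _ _).trans ?_
      refine congrArg₂ (· - ·) (hres _) ?_
      refine (Scheme.Modules.map_smul F (homOfLE hV) _ _).trans ?_
      rw [hres]
    rw [Finset.sum_congr rfl fun j _ => hterm j, Finset.sum_sub_distrib, ← Finset.sum_smul, neg_smul, sub_eq_add_neg]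
    exact add_comm _ _
  refine ⟨fun a b h => ?_, fun t => ?_⟩
  · have h' := (hι a).symm.trans ((congrArg ((kernel.ι q).app V) h).trans (hι b))
    funext j
    have := congrFun ((hε V (hV.trans hD)).1 h') (m.succAbove j)
    simpa only [Fin.insertNth_apply_succAbove] using this
  · obtain ⟨c, hc⟩ := (hε V (hV.trans hD)).2 ((kernel.ι q).app V t)
    refine ⟨fun j => c (m.succAbove j), QCoh.app_injective_of_mono (kernel.ι q) V ?_⟩
    rw [hι, ← hc]
    congr 1
    have h0 : (∑ n, c n * ρ (T.fn m n)) • O1.presheaf.map (homOfLE (hV.trans hD)).op (T.sec m) = 0 := by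
      have h1 : q.app V ((kernel.ι q).app V t) = 0 := QCoh.app_app_eq_zero S V t
      rw [← hc, LFFrame.comb] at h1
      refine Eq.trans ?_ h1
      rw [Finset.sum_smul]
      refine Eq.trans ?_ (map_sum (q.app V).hom _ _).symm
      refine Finset.sum_congr rfl fun n _ => ?_
      refine Eq.trans ?_ (q.app_smul _ _).symm
      rw [mul_smul]
      refine congrArg (c n • ·) ?_
      have e1 : F.presheaf.map (homOfLE (hV.trans hD)).op (ε n) = QCoh.res F hV (ε' n) :=
        (LFFrame.res_res _ _ _ _).symm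
      rw [e1]
      refine Eq.trans ?_ (QCoh.app_res q hV (ε' n)).symm
      rw [hqε]
      refine Eq.trans ?_ (Scheme.Modules.map_smul O1 (homOfLE hV) _ _).symm
      exact congrArg (ρ (T.fn m n) • ·) (LFFrame.res_res _ _ _ _).symm
    have h2 : ∑ n, c n * ρ (T.fn m n) = 0 := by
      refine TopCat.Presheaf.section_ext P.sheaf V _ _ fun x hx => ?_
      have h3 := congrArg (germM O1 V x hx) h0
      erw [germM_smul] at h3
      have e : germM O1 V x hx (O1.presheaf.map (homOfLE (hV.trans hD)).op (T.sec m)) =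
          germM O1 (p ⁻¹ᵁ U) x (hD (hV hx)) (T.sec m) := O1.presheaf.germ_res_apply _ x hx _
      rw [e] at h3
      exact ((T.bas m x (hV hx)).1 (h3.trans ((map_zero (O1.presheaf.germ V x hx).hom).trans (zero_smul _ _).symm))).trans
        (map_zero (P.presheaf.germ V x hx).hom).symm
    rw [Fin.sum_univ_succAbove _ m, hfm, map_one, mul_one, add_eq_zero_iff_eq_neg] at h2
    funext n
    rcases Fin.eq_self_or_eq_succAbove m n with rfl | ⟨j, rfl⟩
    · rw [Fin.insertNth_apply_same, h2]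
    · rw [Fin.insertNth_apply_succAbove]

end kernel

variable {X : Scheme.{u}} {E : X.Modules}

/-- A projective bundle exists, with its tautological quotient. -/
theorem exists_projBundle (hq : Coh.IsQCoh E) {r : ℕ} (hE : FlatMod.IsFinLocFreeOfRank (r + 1) E) :
    ∃ (P : Scheme.{u}) (p : P ⟶ X) (O1 : P.Modules) (q : (Scheme.Modules.pullback p).obj E ⟶ O1)
      (_ : Cov p O1 (r + 1)),
      IsProper p ∧ Smooth p ∧ PicF.IsInvertible O1 ∧ Epi q ∧ FlatMod.IsFinLocFreeOfRank r (kernel q) := by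
  classical
  haveI : E.IsQuasicoherent := hq
  have hS := isGrSymAlg_grAlg (SymLib.isSymAlg_symAlg E)
  let 𝒮 := grAlg (SymLib.symAlg E) (SymLib.jSym E) (SymLib.isSymAlg_symAlg E)
  let j : E ⟶ 𝒮.toModule := SymLib.jSym E
  obtain ⟨P, p, chart, hP⟩ := RelProjLib.exists_isRelProj 𝒮
  obtain ⟨O1, lam, hO1⟩ := RelTildeLib.exists_isRelTwist hP 1
  have hinv : PicF.IsInvertible O1 := GrModLib.isInvertible_relTwist (SymLib.isGenDegOne (j := j) hS) hO1
  obtain ⟨φ, hφ⟩ := exists_toPush (j := j) hS hP hO1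
  let q : (Scheme.Modules.pullback p).obj E ⟶ O1 :=
    ((Scheme.Modules.pullbackPushforwardAdjunction p).homEquiv _ _).symm φ
  have key : ∀ ζ : X, ∃ (U : X.Opens) (hU : IsAffineOpen U), ζ ∈ U ∧ ∃ T : Charts p O1 (r + 1) U hU,
      IsProper (p ∣_ U) ∧ ∃ e : Fin (r + 1) → Γ(E, U), LFFrame.IsFrame E U e ∧
        ∀ n, q.app (p ⁻¹ᵁ U) (LFFrame.unitSec p E U (e n)) = T.sec n := by
    intro ζ
    obtain ⟨U, hζ, ⟨ψ⟩⟩ := hE ζ
    let π : Fin (r + 1) → (FlatMod.freeMod (U : Scheme.{u}) (r + 1) ⟶ Coh.structureModule (U : Scheme.{u})) :=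
      fun j => Sigma.desc fun i => if i = j then 𝟙 _ else 0
    obtain ⟨e0, he0⟩ := LFFrame.exists_isFrame_of_split (M := E)
      (fun i => Sigma.ι (fun _ : Fin (r + 1) => Coh.structureModule (U : Scheme.{u})) i ≫ ψ.inv)
      (fun j => ψ.hom ≫ π j) (fun i j => by simp [π]) (by
        rw [← cancel_epi ψ.inv, ← cancel_mono ψ.hom]
        apply Sigma.hom_ext
        intro j
        simp [π, Preadditive.comp_sum, Preadditive.sum_comp, ite_comp])
    obtain ⟨V, hV, hζV, hVU⟩ := exists_isAffineOpen_mem_and_subset (x := ζ) (U := U) hζ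
    let e := fun i => Desc44.ProjBundle.rs E hVU (e0 i)
    have he : LFFrame.IsFrame E V e := Desc44.ProjBundle.isFrame_restrict he0 hVU
    have hb : Function.Bijective (LFFrame.comb E e (le_refl V)) := he V le_rfl
    obtain ⟨T, hT⟩ := exists_charts_spec (j := j) hS hV hb p chart hP hO1 hinv
    refine ⟨V, hV, hζV, T, ?_, e, he, fun n => ?_⟩
    · let 𝒜 := 𝒮.deg V hV
      have hpoly := isPoly (j := j) hS hV hb
      haveI : Algebra.FiniteType (𝒜 0) (𝒮.presheaf.obj (op V)) := by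
        refine Algebra.FiniteType.of_surjective (A := MvPolynomial (Fin (r + 1)) (𝒜 0))
          (MvPolynomial.aeval (tvar j e)) fun a => ?_
        obtain ⟨b, rfl⟩ := hpoly.bij.2 a
        refine ⟨MvPolynomial.map (𝒮.strZero V hV).hom b, ?_⟩
        rw [MvPolynomial.aeval_def, MvPolynomial.eval₂_map]
        rfl
      haveI : IsProper (Proj.toSpecZero 𝒜) := inferInstance
      have hz : Function.Surjective (𝒮.strZero V hV).hom := fun a => by
        letI := (𝒮.str.app (op V)).hom.toAlgebra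
        have h := (SymLib.mem_deg_iff (j := j) hS hV).1 a.2
        rw [SymLib.piece, pow_zero, Submodule.mem_one] at h
        obtain ⟨c, hc⟩ := h
        exact ⟨c, Subtype.ext hc⟩
      haveI : IsClosedImmersion (Spec.map (𝒮.strZero V hV)) := IsClosedImmersion.spec_of_surjective _ hz
      have e1 : p ∣_ V = (chart V hV).hom ≫ Proj.toSpecZero 𝒜 ≫ Spec.map (𝒮.strZero V hV) ≫ hV.isoSpec.inv := by
        rw [← cancel_mono V.ι, morphismRestrict_ι, ← hP.chart_over V hV]
        simp only [Category.assoc, IsAffineOpen.isoSpec_inv_ι]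
        rfl
      rw [e1]
      infer_instance
    · refine Eq.trans ?_ ((hφ V hV (e n)).unique hO1 ((hT n).1))
      show _ = φ.app V (e n)
      have h := (Adjunction.homEquiv_unit (Scheme.Modules.pullbackPushforwardAdjunction p) _ _ q).symm
      rw [Equiv.apply_symm_apply] at h
      exact congr(($h).app V (e n))
  choose U hU hm T hTp e he hqe using key
  let L : Cov p O1 (r + 1) := ⟨U, hU, hm, T⟩
  haveI hp : IsProper p := by
    rw [IsZariskiLocalAtTarget.iff_of_iSup_eq_top (P := @IsProper) U ?_]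
    · exact hTp
    · rw [eq_top_iff]
      exact fun x _ => Opens.mem_iSup.2 ⟨x, hm x⟩
  refine ⟨P, p, O1, q, L, hp, ?_, hinv, ?_, ?_⟩
  · let 𝒰 : P.OpenCover :=
      { I₀ := Σ _ζ : X, Fin (r + 1)
        X := fun i => Spec (CommRingCat.of (MvPolynomial (Var i.2) Γ(X, U i.1)))
        f := fun i => (T i.1).c i.2
        mem₀ := by
          rw [Scheme.presieve₀_mem_precoverage_iff]
          refine ⟨fun x => ?_, fun i => (T i.1).imm i.2⟩
          obtain ⟨m, hx⟩ := (T (p x)).cover x (hm _)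
          exact ⟨⟨p x, m⟩, hx⟩ }
    rw [IsZariskiLocalAtSource.iff_of_openCover (P := @Smooth) 𝒰]
    intro i
    show Smooth ((T i.1).c i.2 ≫ p)
    rw [(T i.1).over']
    haveI : Smooth (Spec.map (CommRingCat.ofHom
        (MvPolynomial.C : Γ(X, U i.1) →+* MvPolynomial (Var i.2) Γ(X, U i.1)))) := by
      rw [HasRingHomProperty.Spec_iff (P := @Smooth)]
      haveI : Algebra.Smooth Γ(X, U i.1) (MvPolynomial (Var i.2) Γ(X, U i.1)) := ⟨inferInstance, inferInstance⟩
      exact RingHom.smooth_algebraMap.2 this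
    infer_instance
  · refine epi_of_stalk_surjective q fun x v => ?_
    obtain ⟨m, hx⟩ := (T (p x)).cover x (hm _)
    haveI := (T (p x)).imm m
    have hxm : x ∈ ((T (p x)).c m).opensRange := hx
    obtain ⟨c, hc⟩ := ((T (p x)).bas m x hxm).2 v
    refine ⟨c • germM ((Scheme.Modules.pullback p).obj E) (p ⁻¹ᵁ U (p x)) x (hm (p x))
      (LFFrame.unitSec p E (U (p x)) (e (p x) m)), ?_⟩
    rw [map_smul, PullStalk.Exact.stalkLin_germ, hqe (p x) m]
    exact hc
  · refine FinCov71.isFinLocFreeOfRank_of_frames fun x => ?_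
    obtain ⟨m, hx⟩ := (T (p x)).cover x (hm _)
    haveI := (T (p x)).imm m
    exact ⟨((T (p x)).c m).opensRange, _, hx, (exists_kernel_frame q ((he (p x)).pullback p) (T (p x)) m
      (hqe (p x))).choose_spec⟩

end Groth.Agent.CycLib.VecBdl
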